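import Groth.Agent.AlgSpLib.QuotSpLemmas

/-!
Gluing of maps out of a sheaf over `h_U` along a covering sieve of `U`, in `Sp S` and in `Over B`.
-/

set_option autoImplicit false
set_option backward.isDefEq.respectTransparency false
set_option backward.isDefEq.respectTransparency.types false

universe u

open CategoryTheory CategoryTheory.Limits AlgebraicGeometry Opposite
open AlgSp

namespace Groth.Agent.Stk19b.SpQuot

open Groth.Agent.AlgSpLib

variable {S : Scheme.{u}}

/-- Two maps of sheaves agree if they agree on all points. -/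
theorem sp_hom_ext {M F : Sp S} {l l' : M ⟶ F}
    (h : ∀ ⦃Z : Over S⦄ (s : (yon S).obj Z ⟶ M), s ≫ l = s ≫ l') : l = l' := by
  ext1
  ext T x
  obtain ⟨Z⟩ := T
  have := congrArg ((J S).uliftYonedaEquiv) (h ((J S).uliftYonedaEquiv.symm x))
  rw [GrothendieckTopology.uliftYonedaEquiv_comp, GrothendieckTopology.uliftYonedaEquiv_comp,
    Equiv.apply_symm_apply] at this
  exact this

/-- A natural family of maps on points is a map of sheaves. -/
theorem exists_of_points {M F : Sp S} (t : ∀ ⦃Z : Over S⦄, ((yon S).obj Z ⟶ M) → ((yon S).obj Z ⟶ F))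
    (ht : ∀ ⦃Z' Z : Over S⦄ (k : Z' ⟶ Z) (s : (yon S).obj Z ⟶ M), t ((yon S).map k ≫ s) = (yon S).map k ≫ t s) :
    ∃ l : M ⟶ F, ∀ ⦃Z : Over S⦄ (s : (yon S).obj Z ⟶ M), s ≫ l = t s := by
  let sec : ∀ T : (Over S)ᵒᵖ, M.obj.obj T → ((yon S).obj T.unop ⟶ M) := fun T x =>
    ((J S).uliftYonedaEquiv.{u + 1}).symm x
  let α : M.obj ⟶ F.obj :=
    { app := fun T => ↾(fun x => (J S).uliftYonedaEquiv.{u + 1} (t (sec T x)))
      naturality := by
        intro T T' f
        ext x
        show (J S).uliftYonedaEquiv.{u + 1} (t (sec T' (M.obj.map f x))) =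
          F.obj.map f ((J S).uliftYonedaEquiv.{u + 1} (t (sec T x)))
        rw [show sec T' (M.obj.map f x) = (yon S).map f.unop ≫ sec T x from
          GrothendieckTopology.uliftYonedaEquiv_symm_map _ f x, ht,
          GrothendieckTopology.uliftYonedaEquiv_naturality']}
  refine ⟨⟨α⟩, fun Z s => ?_⟩
  apply (J S).uliftYonedaEquiv.injective
  rw [GrothendieckTopology.uliftYonedaEquiv_comp]
  show (J S).uliftYonedaEquiv (t ((J S).uliftYonedaEquiv.symm ((J S).uliftYonedaEquiv s))) = _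
  rw [Equiv.symm_apply_apply]

section Cover

variable {U : Over S} {R : Sieve U} {M F : Sp S} (m : M ⟶ (yon S).obj U)

theorem hom_ext_of_cover (hR : R ∈ J S U) {l l' : M ⟶ F}
    (h : ∀ ⦃Z : Over S⦄ (s : (yon S).obj Z ⟶ M) (g : Z ⟶ U), s ≫ m = (yon S).map g → R g → s ≫ l = s ≫ l') :
    l = l' := by
  refine sp_hom_ext fun Z s => ?_
  obtain ⟨g, hg⟩ := (yon S).map_surjective (s ≫ m)
  refine eq_of_covering ((J S).pullback_stable g hR) fun Z' f hf => ?_
  simpa only [Category.assoc] using h ((yon S).map f ≫ s) (f ≫ g)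
    (by rw [Category.assoc, ← hg, Functor.map_comp]) hf

/-- A compatible family on the points lying over members of a covering sieve glues. -/
theorem exists_glue (hR : R ∈ J S U)
    (t : ∀ ⦃Z : Over S⦄ (s : (yon S).obj Z ⟶ M) (g : Z ⟶ U), s ≫ m = (yon S).map g → R g →
      ((yon S).obj Z ⟶ F))
    (ht : ∀ ⦃Z' Z : Over S⦄ (k : Z' ⟶ Z) (s : (yon S).obj Z ⟶ M) (g : Z ⟶ U) (hs : s ≫ m = (yon S).map g)
      (hg : R g) (hs' : ((yon S).map k ≫ s) ≫ m = (yon S).map (k ≫ g)) (hg' : R (k ≫ g)),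
      t ((yon S).map k ≫ s) (k ≫ g) hs' hg' = (yon S).map k ≫ t s g hs hg) :
    ∃ l : M ⟶ F, ∀ ⦃Z : Over S⦄ (s : (yon S).obj Z ⟶ M) (g : Z ⟶ U) (hs : s ≫ m = (yon S).map g) (hg : R g),
      s ≫ l = t s g hs hg := by
  have key : ∀ ⦃Z : Over S⦄ (s : (yon S).obj Z ⟶ M), ∃! v : (yon S).obj Z ⟶ F,
      ∀ ⦃Z' : Over S⦄ (k : Z' ⟶ Z) (g : Z' ⟶ U) (hs : ((yon S).map k ≫ s) ≫ m = (yon S).map g) (hg : R g),
        (yon S).map k ≫ v = t ((yon S).map k ≫ s) g hs hg := by
    intro Z s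
    obtain ⟨g₀, hg₀⟩ := (yon S).map_surjective (s ≫ m)
    have hmem : ∀ {Z' : Over S} (k : Z' ⟶ Z), ((yon S).map k ≫ s) ≫ m = (yon S).map (k ≫ g₀) := fun k => by
      rw [Category.assoc, ← hg₀, Functor.map_comp]
    let x : Presieve.FamilyOfElements F.obj (R.pullback g₀).arrows := fun Z' k hk =>
      (J S).uliftYonedaEquiv (t ((yon S).map k ≫ s) (k ≫ g₀) (hmem k) hk)
    have hx : x.Compatible := (Presieve.compatible_iff_sieveCompatible x).2 fun Z'' Z' k j hk => by
      show (J S).uliftYonedaEquiv (t ((yon S).map (j ≫ k) ≫ s) ((j ≫ k) ≫ g₀) _ _) =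
        F.obj.map j.op ((J S).uliftYonedaEquiv (t ((yon S).map k ≫ s) (k ≫ g₀) _ _))
      rw [GrothendieckTopology.uliftYonedaEquiv_naturality, ← ht j _ _ (hmem k) hk
        (by simp only [Category.assoc, ← hg₀, Functor.map_comp]) (R.downward_closed hk j)]
      simp only [Functor.map_comp, Category.assoc]
    obtain ⟨y, hy, hyu⟩ := ((isSheaf_iff_isSheaf_of_type _ _).1 F.property _ ((J S).pullback_stable g₀ hR)) x hx
    refine ⟨(J S).uliftYonedaEquiv.symm y, fun Z' k g hs hg => ?_, fun v hv => ?_⟩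
    · obtain rfl : g = k ≫ g₀ := (yon S).map_injective (hs.symm.trans (hmem k))
      apply (J S).uliftYonedaEquiv.injective
      rw [← GrothendieckTopology.uliftYonedaEquiv_naturality, Equiv.apply_symm_apply]
      exact hy k hg
    · rw [Equiv.eq_symm_apply]
      refine hyu _ fun Z' k hk => ?_
      show F.obj.map k.op ((J S).uliftYonedaEquiv v) = _
      rw [GrothendieckTopology.uliftYonedaEquiv_naturality, hv k _ (hmem k) hk]
  choose v hv hvu using key
  obtain ⟨l, hl⟩ := exists_of_points v fun Z' Z k s => (hvu ((yon S).map k ≫ s) _ fun Z'' j g hs hg => by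
    have := hv s (j ≫ k) g (by rw [← hs, Functor.map_comp]; simp only [Category.assoc]) hg
    simpa only [Functor.map_comp, Category.assoc] using this).symm
  refine ⟨l, fun Z s g hs hg => ?_⟩
  rw [hl]
  have := hv s (𝟙 Z) g (by simpa using hs) hg
  simpa using this

/-- A map of sheaves over `h_U` is an isomorphism if points over the members of the sieve lift uniquely. -/
theorem isIso_of_cover (hR : R ∈ J S U) {N : Sp S} (f : M ⟶ N) (n : N ⟶ (yon S).obj U)
    (h : ∀ ⦃Z : Over S⦄ (s : (yon S).obj Z ⟶ N) (g : Z ⟶ U), s ≫ n = (yon S).map g → R g →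
      ∃! l : (yon S).obj Z ⟶ M, l ≫ f = s) : IsIso f := by
  obtain ⟨e, he⟩ := exists_glue n hR (fun Z s g hs hg => (h s g hs hg).exists.choose)
    fun Z' Z k s g hs hg hs' hg' => (h _ _ hs' hg').unique (h _ _ hs' hg').exists.choose_spec
      (by rw [Category.assoc, (h s g hs hg).exists.choose_spec])
  refine ⟨⟨e, hom_ext_of_cover (f ≫ n) hR fun Z s g hs hg => ?_, hom_ext_of_cover n hR fun Z s g hs hg => ?_⟩⟩
  · rw [Category.comp_id, ← Category.assoc, he (s ≫ f) g (by rwa [Category.assoc]) hg]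
    exact (h (s ≫ f) g (by rwa [Category.assoc]) hg).unique
      (h (s ≫ f) g (by rwa [Category.assoc]) hg).exists.choose_spec rfl
  · rw [Category.comp_id, ← Category.assoc, he s g hs hg, (h s g hs hg).exists.choose_spec]

end Cover

section OverBase

variable {B : Sp S} {U : Over S} {R : Sieve U} {M N : Over B}

/-- A point of an object over `B`. -/
abbrev ptOf {Z : Over S} (s : (yon S).obj Z ⟶ M.left) : Over.mk (s ≫ M.hom) ⟶ M := Over.homMk s rfl

/-- Points of an object over `B` are the `ptOf`. -/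
theorem pt_induction {Z : Over S} {motive : ∀ c : (yon S).obj Z ⟶ B, (Over.mk c ⟶ M) → Prop}
    (h : ∀ s : (yon S).obj Z ⟶ M.left, motive (s ≫ M.hom) (ptOf s)) (c : (yon S).obj Z ⟶ B) (k : Over.mk c ⟶ M) :
    motive c k := by
  have key : ∀ (c : (yon S).obj Z ⟶ B) (s : (yon S).obj Z ⟶ M.left) (hc : s ≫ M.hom = c),
      motive c (Over.homMk s hc) := by
    rintro _ s rfl
    exact h s
  exact (show Over.homMk k.left (Over.w k) = k from Over.OverMorphism.ext rfl) ▸ key c k.left (Over.w k)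

theorem over_hom_ext {l l' : M ⟶ N}
    (h : ∀ ⦃Z : Over S⦄ (c : (yon S).obj Z ⟶ B) (k : Over.mk c ⟶ M), k ≫ l = k ≫ l') : l = l' :=
  Over.OverMorphism.ext (sp_hom_ext fun _ s => congrArg CommaMorphism.left (h (s ≫ M.hom) (ptOf s)))

theorem over_hom_ext_of_cover (m : M.left ⟶ (yon S).obj U) (hR : R ∈ J S U) {l l' : M ⟶ N}
    (h : ∀ ⦃Z : Over S⦄ (c : (yon S).obj Z ⟶ B) (k : Over.mk c ⟶ M) (g : Z ⟶ U),
      k.left ≫ m = (yon S).map g → R g → k ≫ l = k ≫ l') : l = l' :=
  Over.OverMorphism.ext (hom_ext_of_cover m hR fun _ s g hs hg =>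
    congrArg CommaMorphism.left (h (s ≫ M.hom) (ptOf s) g hs hg))

theorem over_exists_glue (m : M.left ⟶ (yon S).obj U) (hR : R ∈ J S U)
    (t : ∀ ⦃Z : Over S⦄ (c : (yon S).obj Z ⟶ B) (k : Over.mk c ⟶ M) (g : Z ⟶ U),
      k.left ≫ m = (yon S).map g → R g → (Over.mk c ⟶ N))
    (ht : ∀ ⦃Z' Z : Over S⦄ (c : (yon S).obj Z ⟶ B) (c' : (yon S).obj Z' ⟶ B) (j : Over.mk c' ⟶ Over.mk c)
      (j₀ : Z' ⟶ Z) (k : Over.mk c ⟶ M) (g : Z ⟶ U), j.left = (yon S).map j₀ →
      ∀ (hs : k.left ≫ m = (yon S).map g) (hg : R g) (hs' : (j ≫ k).left ≫ m = (yon S).map (j₀ ≫ g))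
        (hg' : R (j₀ ≫ g)),
        t c' (j ≫ k) (j₀ ≫ g) hs' hg' = j ≫ t c k g hs hg) :
    ∃ l : M ⟶ N, ∀ ⦃Z : Over S⦄ (c : (yon S).obj Z ⟶ B) (k : Over.mk c ⟶ M) (g : Z ⟶ U)
      (hs : k.left ≫ m = (yon S).map g) (hg : R g), k ≫ l = t c k g hs hg := by
  obtain ⟨l, hl⟩ := exists_glue m hR (F := N.left)
    (fun Z s g hs hg => (t (s ≫ M.hom) (ptOf s) g hs hg).left) fun Z' Z k s g hs hg hs' hg' => by
      let j : Over.mk (((yon S).map k ≫ s) ≫ M.hom) ⟶ Over.mk (s ≫ M.hom) :=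
        Over.homMk ((yon S).map k) (Category.assoc _ _ _).symm
      have := congrArg CommaMorphism.left (ht (s ≫ M.hom) _ j k (ptOf s) g rfl hs hg hs' hg')
      exact this
  have hw : l ≫ N.hom = M.hom := hom_ext_of_cover m hR fun Z s g hs hg => by
    rw [← Category.assoc, hl s g hs hg]
    exact Over.w (t (s ≫ M.hom) (ptOf s) g hs hg)
  refine ⟨Over.homMk l hw, fun Z c k g hs hg => Over.OverMorphism.ext ?_⟩
  revert hs
  refine pt_induction (motive := fun c k => ∀ hs, k.left ≫ l = (t c k g hs hg).left) (fun s hs => ?_) c k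
  exact hl s g hs hg

theorem over_isIso_of_cover (n : N.left ⟶ (yon S).obj U) (hR : R ∈ J S U) (f : M ⟶ N)
    (h : ∀ ⦃Z : Over S⦄ (c : (yon S).obj Z ⟶ B) (k : Over.mk c ⟶ N) (g : Z ⟶ U),
      k.left ≫ n = (yon S).map g → R g → ∃! l : Over.mk c ⟶ M, l ≫ f = k) : IsIso f := by
  haveI : IsIso f.left := isIso_of_cover hR f.left n fun Z s g hs hg => by
    obtain ⟨l, hl, hlu⟩ := h (s ≫ N.hom) (ptOf s) g hs hg
    refine ⟨l.left, congrArg CommaMorphism.left hl, fun l' hl' => ?_⟩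
    exact congrArg CommaMorphism.left (hlu (Over.homMk l' (by
      show l' ≫ M.hom = s ≫ N.hom
      rw [← hl', Category.assoc, Over.w f])) (Over.OverMorphism.ext hl'))
  haveI : IsIso ((Over.forget B).map f) := ‹IsIso f.left›
  exact isIso_of_reflects_iso f (Over.forget B)

theorem over_isIso_of_points (f : M ⟶ N)
    (h : ∀ ⦃Z : Over S⦄ (c : (yon S).obj Z ⟶ B) (k : Over.mk c ⟶ N), ∃! l : Over.mk c ⟶ M, l ≫ f = k) :
    IsIso f := by
  obtain ⟨e, he⟩ := exists_of_points (F := M.left) (fun Z s => ((h (s ≫ N.hom) (ptOf s)).exists.choose).left)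
    fun Z' Z k s => by
      let j : Over.mk (((yon S).map k ≫ s) ≫ N.hom) ⟶ Over.mk (s ≫ N.hom) :=
        Over.homMk ((yon S).map k) (Category.assoc _ _ _).symm
      exact congrArg CommaMorphism.left ((h _ (ptOf ((yon S).map k ≫ s))).unique
        (h _ (ptOf ((yon S).map k ≫ s))).exists.choose_spec
        (show (j ≫ (h (s ≫ N.hom) (ptOf s)).exists.choose) ≫ f = _ from
          ((Category.assoc _ _ _).trans (congrArg (j ≫ ·) (h (s ≫ N.hom) (ptOf s)).exists.choose_spec)).trans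
            (Over.OverMorphism.ext rfl)))
  have hw : e ≫ M.hom = N.hom := sp_hom_ext fun Z s => by
    rw [← Category.assoc, he]; exact Over.w (h (s ≫ N.hom) (ptOf s)).exists.choose
  refine ⟨⟨Over.homMk e hw, over_hom_ext fun Z c k => ?_, over_hom_ext fun Z c k => ?_⟩⟩
  · rw [Category.comp_id]
    refine (h c (k ≫ f)).unique ?_ rfl
    rw [Category.assoc, Category.assoc]
    congr 1
    refine over_hom_ext fun Z' c' k' => ?_
    apply Over.OverMorphism.ext
    show k'.left ≫ f.left ≫ e ≫ f.left = k'.left ≫ f.left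
    rw [← Category.assoc, ← Category.assoc, he]
    exact congrArg CommaMorphism.left (h _ (ptOf (k'.left ≫ f.left))).exists.choose_spec
  · rw [Category.comp_id]
    apply Over.OverMorphism.ext
    show k.left ≫ e ≫ f.left = k.left
    rw [← Category.assoc, he]
    exact congrArg CommaMorphism.left (h _ (ptOf k.left)).exists.choose_spec

/-- A commutative square over `B` is cartesian if it is so on points. -/
theorem isPullback_of_points {P X Y : Over B} {fst : P ⟶ X} {snd : P ⟶ Y} {f : X ⟶ N} {g : Y ⟶ N}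
    (w : fst ≫ f = snd ≫ g)
    (h : ∀ ⦃Z : Over S⦄ (c : (yon S).obj Z ⟶ B) (a : Over.mk c ⟶ X) (b : Over.mk c ⟶ Y), a ≫ f = b ≫ g →
      ∃! l : Over.mk c ⟶ P, l ≫ fst = a ∧ l ≫ snd = b) : IsPullback fst snd f g := by
  haveI : IsIso (pullback.lift fst snd w) := over_isIso_of_points _ fun Z c k => by
    obtain ⟨l, ⟨h1, h2⟩, hu⟩ := h c (k ≫ pullback.fst f g) (k ≫ pullback.snd f g)
      (by rw [Category.assoc, Category.assoc, pullback.condition])
    refine ⟨l, pullback.hom_ext (by rw [Category.assoc, pullback.lift_fst, h1])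
      (by rw [Category.assoc, pullback.lift_snd, h2]), fun l' hl' => hu l' ⟨?_, ?_⟩⟩
    · rw [← hl', Category.assoc, pullback.lift_fst]
    · rw [← hl', Category.assoc, pullback.lift_snd]
  exact IsPullback.of_iso_pullback ⟨w⟩ (asIso (pullback.lift fst snd w)) (pullback.lift_fst _ _ _) (pullback.lift_snd _ _ _)

end OverBase

end Groth.Agent.Stk19b.SpQuot
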