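import Groth.Agent.Stk19b.SpQuot.Total
import Groth.Agent.Stk19.Elem
import Groth.Agent.AlgSpLib.Descent

/-! Gluing of objects of `[X/G]` (fppf sheaf torsors). -/

set_option autoImplicit false
set_option backward.isDefEq.respectTransparency false
set_option backward.isDefEq.respectTransparency.types false

universe u

open CategoryTheory CategoryTheory.Limits AlgebraicGeometry MonoidalCategory CartesianMonoidalCategory MonObj
open AlgSp Groth.Agent.AlgSpLib

namespace Groth.Agent.Stk19b.SpQuot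

variable {S : Scheme.{u}} {B : Sp S} {G X : Over B} [GrpObj G] {aX : GAction G X}

open Groth.Agent.Stk19 in
theorem objGlue {U : Over S} {R : Sieve U} (hR : R ∈ J S U) :
    ObjGlue (AlgSt.SpQuotSt Scheme.fppfPrecoverage G aX) R := by
  intro D
  obtain ⟨P₀, π₀, ν₀, hcart, hν⟩ := exists_total D
  obtain ⟨bU, hbU⟩ := exists_bsec D hR
  let P : Over B := Over.mk (π₀ ≫ bU)
  let π : P ⟶ Over.mk bU := Over.homMk π₀ rfl
  have hw : ∀ a, ν₀ a ≫ π₀ ≫ bU = (tot D a).hom := fun a => by
    rw [(hcart a).w_assoc, hbU, tot_hom]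
  let ν : ∀ a, tot D a ⟶ P := fun a => Over.homMk (ν₀ a) (hw a)
  have hcompat : ∀ {a b} (φ : a ⟶ b), topMap D φ ≫ ν b = ν a := fun φ => Over.OverMorphism.ext (hν φ)
  -- lifts of points to the charts
  have hlift : ∀ (a : (Stk.sieveCat R).obj) ⦃Z : Over S⦄ (c : (yon S).obj Z ⟶ B) (k : Over.mk c ⟶ P)
      (e : Z ⟶ a.obj.left), k.left ≫ π₀ = (yon S).map (e ≫ a.obj.hom) →
      ∃! p : Over.mk c ⟶ tot D a, p.left ≫ proj D a = (yon S).map e ∧ p ≫ ν a = k := by
    intro a Z c k e he
    let l := (hcart a).lift k.left ((yon S).map e) (by rw [he, Functor.map_comp])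
    have hl : l ≫ ν₀ a = k.left := (hcart a).lift_fst _ _ _
    refine ⟨Over.homMk l (by rw [← hw a, ← Category.assoc, hl]; exact Over.w k),
      ⟨(hcart a).lift_snd _ _ _, Over.OverMorphism.ext hl⟩, fun p ⟨h1, h2⟩ => Over.OverMorphism.ext ?_⟩
    exact (hcart a).hom_ext ((congrArg CommaMorphism.left h2).trans hl.symm)
      (h1.trans ((hcart a).lift_snd _ _ _).symm)
  choose pt hpt hptu using hlift
  have hex : ∀ ⦃Z : Over S⦄ (c : (yon S).obj Z ⟶ B) (k : Over.mk c ⟶ P) (g : Z ⟶ U)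
      (_ : k.left ≫ π₀ = (yon S).map g) (hg : R g),
      ∃ p : Over.mk c ⟶ tot D (sObj g hg), p.left ≫ proj D (sObj g hg) = 𝟙 _ ∧ p ≫ ν (sObj g hg) = k :=
    fun Z c k g hk hg => by
      have h := hpt (sObj g hg) c k (𝟙 Z) (by rw [hk]; exact congrArg (yon S).map (Category.id_comp g).symm)
      exact ⟨_, h.1.trans ((yon S).map_id Z), h.2⟩
  choose p₀ hp₁ hp₀ using hex
  -- comparison of `p₀` with any lift
  have hcmp : ∀ (a : (Stk.sieveCat R).obj) ⦃Z : Over S⦄ (c : (yon S).obj Z ⟶ B) (p : Over.mk c ⟶ tot D a)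
      (k : Over.mk c ⟶ P) (_ : p ≫ ν a = k) (g : Z ⟶ U) (hk : k.left ≫ π₀ = (yon S).map g) (hg : R g),
      ∃ φ : sObj g hg ⟶ a, p₀ c k g hk hg ≫ topMap D φ = p := by
    intro a Z c p k hp g hk hg
    let e := (yon S).preimage (p.left ≫ proj D a)
    have he : p.left ≫ proj D a = (yon S).map e := ((yon S).map_preimage _).symm
    have hge : e ≫ a.obj.hom = g := (yon S).map_injective (by
      rw [Functor.map_comp, ← he, Category.assoc, ← (hcart a).w, ← hk, ← hp]
      exact (Category.assoc _ _ _).symm)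
    let φ : sObj g hg ⟶ a := sHom e hge
    refine ⟨φ, ?_⟩
    have hkk : k.left ≫ π₀ = (yon S).map (e ≫ a.obj.hom) := by rw [hge, hk]
    refine (hptu a c k e hkk _ ⟨?_, ?_⟩).trans (hptu a c k e hkk p ⟨he, hp⟩).symm
    · rw [Over.comp_left, Category.assoc, (isPullback_topMap D φ).w,
        reassoc_of% (hp₁ c k g hk hg)]
      rfl
    · rw [Category.assoc, hcompat, hp₀]
  -- natural values
  have hnat : ∀ {N : Over B} (val : ∀ a, tot D a ⟶ N), (∀ {a b} (φ : a ⟶ b), topMap D φ ≫ val b = val a) →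
      ∀ (a : (Stk.sieveCat R).obj) ⦃Z : Over S⦄ (c : (yon S).obj Z ⟶ B) (p : Over.mk c ⟶ tot D a)
      (k : Over.mk c ⟶ P) (_ : p ≫ ν a = k) (g : Z ⟶ U) (hk : k.left ≫ π₀ = (yon S).map g) (hg : R g),
      p₀ c k g hk hg ≫ val (sObj g hg) = p ≫ val a := by
    intro N val hval a Z c p k hp g hk hg
    obtain ⟨φ, hφ⟩ := hcmp a c p k hp g hk hg
    rw [← hφ, Category.assoc, hval]
  -- the action
  obtain ⟨act, hact⟩ := over_exists_glue (M := G ⊗ P) (N := P) ((snd G P).left ≫ π₀) hR
    (fun Z c k g hk hg => smul (D.obj (sObj g hg)).act (k ≫ fst G P)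
      (p₀ c (k ≫ snd G P) g (by rw [Over.comp_left, Category.assoc, hk]) hg) ≫ ν (sObj g hg))
    fun Z' Z c c' j j₀ k g hj hk hg hk' hg' => by
      have hk1 : (k ≫ snd G P).left ≫ π₀ = (yon S).map g := by rw [Over.comp_left, Category.assoc, hk]
      obtain ⟨φ, hφ⟩ := hcmp (sObj g hg) c' (j ≫ p₀ c (k ≫ snd G P) g hk1 hg) ((j ≫ k) ≫ snd G P)
        (by rw [Category.assoc, hp₀, Category.assoc]) (j₀ ≫ g)
        (by rw [Over.comp_left, Category.assoc]; exact hk') hg'
      have e : smul (D.obj (sObj g hg)).act ((j ≫ k) ≫ fst G P) (j ≫ p₀ c (k ≫ snd G P) g hk1 hg) =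
          j ≫ smul (D.obj (sObj g hg)).act (k ≫ fst G P) (p₀ c (k ≫ snd G P) g hk1 hg) :=
        ((congrArg (fun q => smul _ q _) (Category.assoc _ _ _))).trans (comp_smul _ _ _ _).symm
      rw [← hcompat φ, ← Category.assoc, top_smul _ (D.map φ), hφ]
      exact (congrArg (· ≫ ν (sObj g hg)) e).trans (Category.assoc _ _ _)
  have hchart : ∀ a, (G ◁ ν a) ≫ act = (D.obj a).act.act ≫ ν a := fun a => by
    refine over_hom_ext_of_cover ((snd G (tot D a)).left ≫ proj D a ≫ (yon S).map a.obj.hom) hR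
      fun Z c k g hk hg => ?_
    have hk' : (k ≫ G ◁ ν a).left ≫ (snd G P).left ≫ π₀ = (yon S).map g := by
      rw [← Category.assoc, ← Over.comp_left, Category.assoc k, whiskerLeft_snd, Over.comp_left, Over.comp_left,
        Category.assoc, Category.assoc]
      show k.left ≫ (snd G (tot D a)).left ≫ ν₀ a ≫ π₀ = _
      rw [(hcart a).w, hk]
    have hk1 : ((k ≫ G ◁ ν a) ≫ snd G P).left ≫ π₀ = (yon S).map g := by rw [Over.comp_left, Category.assoc, hk']
    rw [← Category.assoc, hact c (k ≫ G ◁ ν a) g hk' hg]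
    obtain ⟨φ, hφ⟩ := hcmp a c (k ≫ snd G (tot D a)) ((k ≫ G ◁ ν a) ≫ snd G P) (by simp) g hk1 hg
    rw [← hcompat φ, ← Category.assoc, top_smul _ (D.map φ), hφ, Category.assoc k, whiskerLeft_fst, ← comp_smul]
    simp [smul]
  -- maps out of `Y ⊗ P` are determined on charts
  have hext : ∀ {Y N : Over B} (l l' : Y ⊗ P ⟶ N), (∀ a, (Y ◁ ν a) ≫ l = (Y ◁ ν a) ≫ l') → l = l' := by
    intro Y N l l' h
    refine over_hom_ext_of_cover ((snd Y P).left ≫ π₀) hR fun Z c k g hk hg => ?_
    have hk1 : (k ≫ snd Y P).left ≫ π₀ = (yon S).map g := by rw [Over.comp_left, Category.assoc, hk]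
    have e : k = lift (k ≫ fst Y P) (p₀ c (k ≫ snd Y P) g hk1 hg) ≫ (Y ◁ ν (sObj g hg)) := by
      apply CartesianMonoidalCategory.hom_ext <;> simp [hp₀]
    rw [e, Category.assoc, Category.assoc, h]
  let actP : GAction G P :=
    { act := act
      one_act := hext _ _ fun a => by
        rw [MonoidalCategory.whisker_exchange_assoc, hchart, reassoc_of% (D.obj a).act.one_act]
        exact (leftUnitor_naturality (ν a)).symm
      mul_act := hext _ _ fun a => by
        rw [MonoidalCategory.whisker_exchange_assoc, hchart, reassoc_of% (D.obj a).act.mul_act,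
          MonoidalCategory.tensor_whiskerLeft, Category.assoc, Category.assoc, Iso.inv_hom_id_assoc,
          ← MonoidalCategory.whiskerLeft_comp_assoc, hchart, MonoidalCategory.whiskerLeft_comp_assoc, hchart] }
  have hw' : act ≫ π = snd G P ≫ π := hext _ _ fun a => by
    rw [← Category.assoc, hchart, whiskerLeft_snd_assoc, Category.assoc]
    apply Over.OverMorphism.ext
    show (D.obj a).act.act.left ≫ ν₀ a ≫ π₀ = (snd G (tot D a)).left ≫ ν₀ a ≫ π₀
    have e : (D.obj a).act.act.left ≫ (D.obj a).π.left = (snd G (tot D a)).left ≫ (D.obj a).π.left :=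
      congrArg CommaMorphism.left (D.obj a).cart.w
    rw [(hcart a).w, proj, Category.assoc, reassoc_of% e]
  have hsmul : ∀ (a : (Stk.sieveCat R).obj) {T : Over B} (g : T ⟶ G) (p : T ⟶ tot D a),
      smul actP g (p ≫ ν a) = smul (D.obj a).act g p ≫ ν a := fun a T g p => by
    show lift g (p ≫ ν a) ≫ act = (lift g p ≫ (D.obj a).act.act) ≫ ν a
    rw [← lift_whiskerLeft, Category.assoc, hchart, Category.assoc]
  have hπa : ∀ (a : (Stk.sieveCat R).obj) ⦃Z : Over S⦄ {c : (yon S).obj Z ⟶ B} (p q : Over.mk c ⟶ tot D a),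
      p.left ≫ proj D a = q.left ≫ proj D a → p ≫ (D.obj a).π = q ≫ (D.obj a).π := fun a Z c p q h => by
    apply Over.OverMorphism.ext
    have := congrArg (· ≫ (yon S).map (eqToHom (base_eq D a).symm)) h
    simp only [proj, Category.assoc, ← Functor.map_comp, eqToHom_trans, eqToHom_refl, CategoryTheory.Functor.map_id,
      Category.comp_id] at this
    exact this
  have hcartP : IsPullback act (snd G P) π π := by
    haveI : IsIso (pullback.lift act (snd G P) hw') := by
      refine over_isIso_of_cover ((pullback.fst π π).left ≫ π₀) hR _ fun Z c k g hk hg => ?_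
      let q := k ≫ pullback.fst π π
      let p := k ≫ pullback.snd π π
      have hq : q.left ≫ π₀ = (yon S).map g := by rw [← hk]; exact Category.assoc _ _ _
      have hp : p.left ≫ π₀ = (yon S).map g := by
        have e : q ≫ π = p ≫ π := by simp only [q, p, Category.assoc, pullback.condition]
        exact (congrArg CommaMorphism.left e).symm.trans hq
      let q' := p₀ c q g hq hg
      let p' := p₀ c p g hp hg
      have hpq : q' ≫ (D.obj (sObj g hg)).π = p' ≫ (D.obj (sObj g hg)).π :=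
        hπa _ _ _ ((hp₁ c q g hq hg).trans (hp₁ c p g hp hg).symm)
      obtain ⟨g1, hg1, hg1u⟩ := existsUnique_smul (D.obj (sObj g hg)) p' q' hpq
      refine ⟨lift g1 p, pullback.hom_ext ?_ ?_, fun l hl => ?_⟩
      · rw [Category.assoc, pullback.lift_fst]
        show smul actP g1 p = q
        rw [show p = p' ≫ ν (sObj g hg) from (hp₀ c p g hp hg).symm, hsmul, hg1, hp₀]
      · rw [Category.assoc, pullback.lift_snd, lift_snd]
      · have h2 : l ≫ snd G P = p := by simp only [p, ← hl, Category.assoc, pullback.lift_snd]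
        have h1 : l ≫ act = q := by simp only [q, ← hl, Category.assoc, pullback.lift_fst]
        have e : l = lift (l ≫ fst G P) p := by
          apply CartesianMonoidalCategory.hom_ext
          · simp
          · rw [lift_snd, h2]
        have h3 : smul (D.obj (sObj g hg)).act (l ≫ fst G P) p' ≫ ν (sObj g hg) = q := by
          rw [← hsmul, hp₀]
          show lift _ p ≫ act = q
          rw [← e, h1]
        have h4 : smul (D.obj (sObj g hg)).act (l ≫ fst G P) p' = q' := by
          have hqq : q.left ≫ π₀ = (yon S).map (𝟙 Z ≫ g) := by rw [Category.id_comp]; exact hq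
          refine (hptu (sObj g hg) c q (𝟙 Z) hqq _ ⟨?_, h3⟩).trans
            (hptu (sObj g hg) c q (𝟙 Z) hqq _ ⟨(hp₁ c q g hq hg).trans ((yon S).map_id Z).symm, hp₀ c q g hq hg⟩).symm
          have e4 : (smul (D.obj (sObj g hg)).act (l ≫ fst G P) p').left ≫ (D.obj (sObj g hg)).π.left =
              p'.left ≫ (D.obj (sObj g hg)).π.left :=
            congrArg CommaMorphism.left (smul_π (D.obj (sObj g hg)) (l ≫ fst G P) p')
          rw [proj, ← Category.assoc, e4, Category.assoc]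
          exact (hp₁ c p g hp hg).trans ((yon S).map_id Z).symm
        rw [e, hg1u _ h4]
    exact IsPullback.of_iso_pullback ⟨hw'⟩ (asIso (pullback.lift act (snd G P) hw'))
      (pullback.lift_fst _ _ _) (pullback.lift_snd _ _ _)
  -- the map to `X`
  have hφnat : ∀ {a b} (φ : a ⟶ b), topMap D φ ≫ (D.obj b).φ = (D.obj a).φ := fun φ => (D.map φ).wφ
  obtain ⟨Φ, hΦ⟩ := over_exists_glue (M := P) (N := X) π₀ hR
    (fun Z c k g hk hg => p₀ c k g hk hg ≫ (D.obj (sObj g hg)).φ)
    fun Z' Z c c' j j₀ k g hj hk hg hk' hg' => by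
      rw [hnat (fun a => (D.obj a).φ) hφnat (sObj g hg) c' (j ≫ p₀ c k g hk hg) (j ≫ k)
        (by rw [Category.assoc, hp₀]) _ hk' hg', Category.assoc]
  have hΦc : ∀ a, ν a ≫ Φ = (D.obj a).φ := fun a => by
    refine over_hom_ext_of_cover (proj D a ≫ (yon S).map a.obj.hom) hR fun Z c k g hk hg => ?_
    have hk' : (k ≫ ν a).left ≫ π₀ = (yon S).map g := by
      rw [Over.comp_left, Category.assoc]
      show k.left ≫ ν₀ a ≫ π₀ = _
      rw [(hcart a).w, hk]
    rw [← Category.assoc, hΦ c (k ≫ ν a) g hk' hg, hnat (fun a => (D.obj a).φ) hφnat a c k _ rfl g hk' hg]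
  have heqv : act ≫ Φ = (G ◁ Φ) ≫ aX.act := hext _ _ fun a => by
    rw [reassoc_of% (hchart a), hΦc, (D.obj a).eqv, ← MonoidalCategory.whiskerLeft_comp_assoc, hΦc]
  -- local triviality
  have hloc : AlgSt.HasSecLoc Scheme.fppfPrecoverage π₀ := by
    obtain ⟨R', hR', hle⟩ := exists_precoverage_of_mem hR
    obtain ⟨I, V, f, rfl⟩ := R'.exists_eq_ofArrows
    let a : I → (Stk.sieveCat R).obj := fun i => sObj (Over.homMk (f i) : Over.mk (f i ≫ U.hom) ⟶ U) (hle _ ⟨i⟩)
    have hP : ∀ i, ∃ (σ : Type (u + 1)) (Y : σ → Scheme.{u}) (g : ∀ j, Y j ⟶ V i),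
        Presieve.ofArrows Y g ∈ Scheme.fppfPrecoverage (V i) ∧
          ∀ j, ∃ v : (yon S).obj (Over.mk (g j ≫ (a i).obj.left.hom)) ⟶ (tot D (a i)).left,
            v ≫ proj D (a i) = (yon S).map (Over.homMk (g j)) := fun i => by
      have hloc' : AlgSt.HasSecLoc Scheme.fppfPrecoverage (proj D (a i)) :=
        hasSecLoc_pullback (D.obj (a i)) (eqToHom (base_eq D (a i)).symm) (D.obj (a i)).loc
          (IsPullback.of_horiz_isIso ⟨by simp [proj, eqToHom_map]⟩ :
            IsPullback (𝟙 _) (proj D (a i)) (D.obj (a i)).π.left _)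
      obtain ⟨R'', hR'', hs⟩ := hloc'
      obtain ⟨σ, Y, g, rfl⟩ := R''.exists_eq_ofArrows
      exact ⟨σ, Y, g, hR'', fun j => hs (g j) ⟨j⟩⟩
    choose σ Y g hg hs using hP
    refine ⟨_, Precoverage.comp_mem_coverings f hR' g hg, ?_⟩
    rintro S' k ⟨⟨i, j⟩⟩
    obtain ⟨v, hv⟩ := hs i j
    let id' : Over.mk ((g i j ≫ f i) ≫ U.hom) ⟶ Over.mk (g i j ≫ f i ≫ U.hom) :=
      Over.homMk (𝟙 _) ((Category.id_comp _).trans (Category.assoc _ _ _).symm)
    refine ⟨(yon S).map id' ≫ v ≫ ν₀ (a i), ?_⟩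
    have e1 : v ≫ ν₀ (a i) ≫ π₀ = (yon S).map (Over.homMk (g i j) ≫ (a i).obj.hom) := by
      rw [(hcart (a i)).w, reassoc_of% hv, Functor.map_comp]
    refine ((Category.assoc _ _ _).trans (congrArg ((yon S).map id' ≫ ·) ((Category.assoc _ _ _).trans e1))).trans ?_
    rw [← Functor.map_comp]
    congr 1
  refine ⟨⟨U, bU, P, actP, π, hcartP, hloc, Φ, heqv⟩, rfl, fun a =>
    { base := eqToHom (base_eq D a) ≫ a.obj.hom
      wb := by
        rw [Functor.map_comp, Category.assoc, hbU, bsec, ← Functor.map_comp_assoc]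
        simp
      top := ν a
      eqv := (hchart a).symm
      cart := IsPullback.of_map (Over.forget B) (Over.OverMorphism.ext ?_) ?_
      wφ := hΦc a }, fun a => ?_, fun a b φ => AlgSt.SpQuotObj.hom_ext ?_ (hcompat φ)⟩
  · show ν₀ a ≫ π₀ = (D.obj a).π.left ≫ (yon S).map (eqToHom (base_eq D a) ≫ a.obj.hom)
    rw [(hcart a).w, proj, Functor.map_comp, Category.assoc]
  · show IsPullback (ν₀ a) (D.obj a).π.left π₀ ((yon S).map (eqToHom (base_eq D a) ≫ a.obj.hom))
    refine (hcart a).of_iso (Iso.refl _) (Iso.refl _) ((yon S).mapIso (eqToIso (base_eq D a).symm)) (Iso.refl _)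
      ?_ ?_ ?_ ?_
    · simp
    · simp [proj, eqToHom_map]
    · simp
    · simp [eqToHom_map]
  · show eqToHom _ ≫ a.obj.hom = eqToHom _ ≫ a.obj.hom ≫ 𝟙 U
    rw [Category.comp_id]
  · show (D.map φ).base ≫ eqToHom _ ≫ b.obj.hom = eqToHom _ ≫ a.obj.hom
    rw [map_base, ← Over.w φ.hom]
    simp

end Groth.Agent.Stk19b.SpQuot
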