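import Groth.Agent.Stk19b.SpQuot.HomGlue
import Groth.Agent.Stk19b.SpQuot.ObjGlue

/-! `[X/G]` with torsors given as fppf sheaves is a stack. -/

set_option autoImplicit false
set_option backward.isDefEq.respectTransparency false
set_option backward.isDefEq.respectTransparency.types false

universe u

open CategoryTheory AlgebraicGeometry MonoidalCategory
open AlgSp

namespace Groth.Agent.Stk19b.SpQuot

variable {S : Scheme.{u}} {B : Sp S} (G : Over B) [GrpObj G] {X : Over B} (aX : GAction G X)

theorem isStack : Stk.IsStack (J S) (AlgSt.SpQuotSt Scheme.fppfPrecoverage G aX) :=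
  ⟨isFibGrpd G _ aX, fun _ _ hR =>
    (Stk19.isStackFor_iff_glue (isFibGrpd G _ aX) _).2 ⟨homGlue hR, objGlue hR⟩⟩

end Groth.Agent.Stk19b.SpQuot
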