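import Groth.Agent.Stk19b.SpQuot.Basic
import Groth.Agent.Stk19b.Fppf.Bootstrap
import Groth.Agent.Stk19.Stack
import Groth.Prelude.Def_AlgSt3

/-! Torsors under a group algebraic space are algebraic spaces. -/

set_option autoImplicit false
set_option backward.isDefEq.respectTransparency false
set_option backward.isDefEq.respectTransparency.types false

universe u

open CategoryTheory CategoryTheory.Limits AlgebraicGeometry MonoidalCategory CartesianMonoidalCategory
open AlgSp Groth.Agent.AlgSpLib

namespace Groth.Agent.Stk19b.SpQuot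

variable {S : Scheme.{u}} {B : Sp S}


theorem toUnit_left (Y : Over B) : (toUnit Y).left = Y.hom :=
  (Category.comp_id _).symm.trans (Over.w (toUnit Y))

theorem isPullback_tensor_left (Y T : Over B) : IsPullback (fst Y T).left (snd Y T).left Y.hom T.hom := by
  have h := (AlgSt.isPullback_fst_snd' Y T).map (Over.forget B)
  have e1 : (toUnit Y).left = Y.hom := toUnit_left Y
  have e2 : (toUnit T).left = T.hom := toUnit_left T
  simpa [e1, e2] using h

variable {G X : Over B} [GrpObj G] {aX : GAction G X}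

theorem isAlgSpace_tensor (hB : IsAlgSpace B) (hG : IsAlgSpace G.left) {T : Over B} (hT : IsAlgSpace T.left) :
    IsAlgSpace (G ⊗ T).left :=
  isAlgSpace_of_isPullback hB.diag hG hT (isPullback_tensor_left G T)

/-- A point of a torsor trivialises its base change. -/
theorem isPullback_point {K : Precoverage Scheme.{u}} (A : AlgSt.SpQuotObj K G aX) {T : Over B} (t : T ⟶ A.P) :
    IsPullback (smul A.act (fst G T) (snd G T ≫ t)) (snd G T) A.π (t ≫ A.π) := by
  have e : smul A.act (fst G T) (snd G T ≫ t) = (G ◁ t) ≫ A.act.act := by rw [whiskerLeft_eq]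
  rw [e]
  exact (AlgSt.isPullback_whiskerLeft' t).paste_horiz A.cart

theorem epi_π (A : AlgSt.SpQuotObj Scheme.fppfPrecoverage G aX) : Epi A.π.left := by
  obtain ⟨R, hR, hsec⟩ := A.loc
  let R' : Sieve A.base :=
    { arrows := fun Z g => ∃ s : (yon S).obj Z ⟶ A.P.left, s ≫ A.π.left = (yon S).map g
      downward_closed := fun {Z Z'} g hg k => by
        obtain ⟨s, hs⟩ := hg
        exact ⟨(yon S).map k ≫ s, by rw [Category.assoc, hs, ← Functor.map_comp]⟩ }
  have hR' : R' ∈ J S A.base := by
    rw [GrothendieckTopology.mem_over_iff]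
    refine GrothendieckTopology.superset_covering _ ?_ (Precoverage.generate_mem_toGrothendieck hR)
    rintro Z g ⟨W, a, b, hb, rfl⟩
    refine (Sieve.overEquiv A.base R').downward_closed ?_ a
    rw [Sieve.overEquiv_iff]
    exact hsec b hb
  refine ⟨fun {F} l l' hll => hom_ext_of_cover (𝟙 _) hR' fun Z s g hs hg => ?_⟩
  obtain ⟨v, hv⟩ := hg
  rw [Category.comp_id] at hs
  rw [hs, ← hv, Category.assoc, Category.assoc, hll]

/-- A torsor has a section over an fppf cover of its base. -/
theorem exists_cover_point (A : AlgSt.SpQuotObj Scheme.fppfPrecoverage G aX) :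
    ∃ (V : Over S) (c : V ⟶ A.base), Flat c.left ∧ LocallyOfFinitePresentation c.left ∧ Surjective c.left ∧
      ∃ t : Over.mk ((yon S).map c ≫ A.b) ⟶ A.P, t ≫ A.π = AlgSt.bHom c rfl := by
  haveI := epi_π A
  obtain ⟨V, c, h1, h2, h3, x, hx⟩ := Fppf.exists_fppf_cover_lift A.π.left (𝟙 ((yon S).obj A.base))
  rw [Category.comp_id] at hx
  have hw : x ≫ A.P.hom = (yon S).map c ≫ A.b := by
    rw [← hx, Category.assoc]
    exact congrArg (x ≫ ·) (Over.w A.π).symm
  exact ⟨V, c, h1, h2, h3, Over.homMk x hw, Over.OverMorphism.ext hx⟩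

/-- Torsors under a group algebraic space over an algebraic space are algebraic spaces. -/
theorem isAlgSpace_P (hB : IsAlgSpace B) (hG : IsAlgSpace G.left)
    (A : AlgSt.SpQuotObj Scheme.fppfPrecoverage G aX) : IsAlgSpace A.P.left := by
  obtain ⟨V, c, h1, h2, h3, t, ht⟩ := exists_cover_point A
  have sq : IsPullback (smul A.act (fst G _) (snd G _ ≫ t)) (snd G (Over.mk ((yon S).map c ≫ A.b))) A.π
      (AlgSt.bHom c rfl) := ht ▸ isPullback_point A t
  exact Fppf.isAlgSpace_of_fppf_cover_base c (sq.map (Over.forget B))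
    (isAlgSpace_tensor hB hG (IsAlgSpace.yon_obj V))

/-- The full subcategory of `[X/G]` on the algebraic space torsors is everything. -/
theorem isEquivOver_subIncl (hB : IsAlgSpace B) (hG : IsAlgSpace G.left) :
    FibCat.IsEquivOver (AlgSt.subIncl (AlgSt.SpQuotSt Scheme.fppfPrecoverage G aX)
      (fun A => IsAlgSpace A.P.left)) :=
  Stk19.EqvData.isEquivOver
    { full := inferInstanceAs (ObjectProperty.ι _).Full
      faithful := inferInstanceAs (ObjectProperty.ι _).Faithful
      surj := fun A => ⟨⟨A, isAlgSpace_P hB hG A⟩, Iso.refl _,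
        (Stk19.vert_iff _ _).2 ⟨rfl, rfl, (AlgSt.SpQuotSt Scheme.fppfPrecoverage G aX).p.map_id A⟩⟩ }

end Groth.Agent.Stk19b.SpQuot
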