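import Groth.Agent.Stk19b.SpQuot.QuotMap
import Groth.Agent.Stk19.AlgSt.FpAlg
import Groth.Agent.AlgSpLib.EtLocalInst

/-! `X ⟶ [X/G]` is representable with the properties of `G ⟶ B`. -/

set_option autoImplicit false
set_option backward.isDefEq.respectTransparency false
set_option backward.isDefEq.respectTransparency.types false

universe u

open CategoryTheory CategoryTheory.Limits AlgebraicGeometry MonoidalCategory CartesianMonoidalCategory MonObj
open AlgSp Groth.Agent.Stk19

namespace Groth.Agent.Stk19b.SpQuot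

variable {S : Scheme.{u}} {B : Sp S} {G X : Over B} [GrpObj G] {aX : GAction G X}

/-- A property of `G ⟶ B` stable under base change and descending along covers holds for torsors. -/
theorem prop_of_group {P : MorphismProperty (Sp S)} (hP : PbStable P) (hD : SchDescent P) (hB : IsAlgSpace B)
    (hG : IsAlgSpace G.left) (h : P G.hom) {U : Over S}
    (y : FibCat.overCat U ⥤ᵇ AlgSt.SpQuotSt Scheme.fppfPrecoverage G aX) : P (clsMap y) := by
  obtain ⟨V, c, h1, h2, h3, t, ht⟩ := exists_cover_point (cls y)
  let c' : V ⟶ U := c ≫ eqToHom (cls_base y)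
  have sq : IsPullback (smul (cls y).act (fst G _) (snd G _ ≫ t))
      (snd G (Over.mk ((yon S).map c ≫ (cls y).b))) (cls y).π (AlgSt.bHom c rfl) := ht ▸ isPullback_point (cls y) t
  have sq' := (sq.map (Over.forget B)).paste_vert
    (IsPullback.of_vert_isIso ⟨(Functor.map_comp _ c (eqToHom (cls_base y))).symm⟩ :
      IsPullback ((yon S).map c) (𝟙 _) ((yon S).map (eqToHom (cls_base y))) ((yon S).map c'))
  erw [Category.comp_id] at sq'
  haveI : IsIso (eqToHom (cls_base y)).left := inferInstanceAs (IsIso ((Over.forget S).map (eqToHom (cls_base y))))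
  have e : c'.left = c.left ≫ (eqToHom (cls_base y)).left := rfl
  refine hD (V := ⟨_, isAlgSpace_P hB hG (cls y)⟩) (clsMap y) c' ?_ ?_ ?_ ?_
  · rw [e]; infer_instance
  · rw [e]; infer_instance
  · rw [e]; infer_instance
  · have hiso := sq'.isoPullback_inv_snd
    have sqG : IsPullback (sq'.isoPullback.inv ≫ (fst G (Over.mk ((yon S).map c ≫ (cls y).b))).left)
        (pullback.snd (clsMap y) ((yon S).map c')) G.hom ((yon S).map c ≫ (cls y).b) :=
      (isPullback_tensor_left G (Over.mk ((yon S).map c ≫ (cls y).b))).of_iso sq'.isoPullback (Iso.refl _) (Iso.refl _)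
        (Iso.refl _) (by simp) (by simp) (by simp) (by simp)
    exact hP hG hB (isAlgSpace_tensor hB hG (IsAlgSpace.yon_obj V) |>.of_iso sq'.isoPullback) (IsAlgSpace.yon_obj V)
      _ _ _ _ sqG h

/-- `X ⟶ [X/G]` is representable by algebraic spaces with the properties of `G ⟶ B`. -/
theorem quotMap_with {P : MorphismProperty (Sp S)} (hP : PbStable P) (hD : SchDescent P) (hB : IsAlgSpace B)
    (hG : IsAlgSpace G.left) (h : P G.hom) :
    AlgSt.RepByAlgSpWith P (AlgSt.spQuotMap Scheme.fppfPrecoverage G aX) := fun U y => by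
  obtain ⟨e, he, hm⟩ := exists_fp_equiv y
  refine ⟨⟨_, isAlgSpace_P hB hG (cls y)⟩, e, he, ?_⟩
  rw [hm]
  exact prop_of_group hP hD hB hG h y

theorem schDescent_surjective : SchDescent (IsSurjectiveMor (S := S)) := fun V T W a c _ _ hc h x => by
  obtain ⟨w, rfl⟩ := (AlgSpLib.surjective_map_yon_map_iff c).2 hc x
  obtain ⟨v, rfl⟩ := h w
  refine ⟨Points.map (pullback.fst a ((yon S).map c)) v, ?_⟩
  rw [← Points.map_comp, ← Points.map_comp, pullback.condition]

theorem surjective_group (G : Over B) [GrpObj G] : IsSurjectiveMor G.hom := fun x => by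
  refine ⟨Points.map (η : 𝟙_ (Over B) ⟶ G).left x, ?_⟩
  rw [← Points.map_comp, Over.w (η : 𝟙_ (Over B) ⟶ G)]
  exact Points.map_id _

end Groth.Agent.Stk19b.SpQuot
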