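import Groth.Agent.Stk19b.SpQuot.Torsor

/-! Morphisms out of trivial objects of `[X/G]` are points of the torsor. -/

set_option autoImplicit false
set_option backward.isDefEq.respectTransparency false
set_option backward.isDefEq.respectTransparency.types false

universe u

open CategoryTheory CategoryTheory.Limits AlgebraicGeometry MonoidalCategory CartesianMonoidalCategory MonObj
open AlgSp

namespace Groth.Agent.Stk19b.SpQuot

variable {S : Scheme.{u}} {B : Sp S} {G X : Over B} [GrpObj G] {K : Precoverage Scheme.{u}}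
  [K.HasIsos] {aX : GAction G X}

/-- The canonical map `X ⟶ [X/G]`. -/
noncomputable abbrev qmap : AlgSt.ofSp X.left ⥤ᵇ AlgSt.SpQuotSt K G aX := AlgSt.spQuotMap K G aX

/-- The base of a trivial object over `B`. -/
noncomputable abbrev trivBase (x : (AlgSt.ofSp X.left).obj) : Over B := Over.mk (AlgSt.secYon x ≫ X.hom)

/-- The unit section. -/
noncomputable abbrev unitPt (T : Over B) : T ⟶ G ⊗ T := lift 1 (𝟙 T)

theorem triv_smul (x : (AlgSt.ofSp X.left).obj) {Z : Over B} (g h : Z ⟶ G) (t : Z ⟶ trivBase x) :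
    smul ((qmap (K := K) (aX := aX)).obj x).act g (lift h t) = (lift (g * h) t : Z ⟶ G ⊗ trivBase x) := by
  show lift g (lift h t) ≫ lift (fst G (G ⊗ trivBase x) * (snd G (G ⊗ trivBase x) ≫ fst G (trivBase x)))
    (snd G (G ⊗ trivBase x) ≫ snd G (trivBase x)) = _
  rw [comp_lift, MonObj.comp_mul]
  simp

theorem triv_φ (x : (AlgSt.ofSp X.left).obj) {Z : Over B} (h : Z ⟶ G) (t : Z ⟶ trivBase x) :
    (lift h t : Z ⟶ G ⊗ trivBase x) ≫ ((qmap (K := K) (aX := aX)).obj x).φ = smul aX h (t ≫ AlgSt.secOver x) := by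
  show lift h t ≫ (G ◁ AlgSt.secOver x) ≫ aX.act = lift h (t ≫ AlgSt.secOver x) ≫ aX.act
  rw [lift_whiskerLeft_assoc]

theorem unitPt_φ (x : (AlgSt.ofSp X.left).obj) :
    unitPt (trivBase x) ≫ ((qmap (K := K) (aX := aX)).obj x).φ = AlgSt.secOver x := by
  rw [triv_φ, Category.id_comp, smul_one]

/-- The morphism from a trivial object given by a point of the torsor. -/
noncomputable def ptHom (A : AlgSt.SpQuotObj K G aX) {x : (AlgSt.ofSp X.left).obj} (t : trivBase x ⟶ A.P)
    (g : x.base ⟶ A.base) (hg : t.left ≫ A.π.left = (yon S).map g) (hφ : t ≫ A.φ = AlgSt.secOver x) :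
    (qmap (K := K) (aX := aX)).obj x ⟶ A where
  base := g
  wb := by
    rw [← hg]
    exact Over.w (t ≫ A.π)
  top := smul A.act (fst G (trivBase x)) (snd G (trivBase x) ≫ t)
  eqv := by
    show (AlgSt.spLeftMul G (trivBase x)).act ≫ smul A.act (fst G (trivBase x)) (snd G (trivBase x) ≫ t) =
      (G ◁ smul A.act (fst G (trivBase x)) (snd G (trivBase x) ≫ t)) ≫ A.act.act
    have e : (AlgSt.spLeftMul G (trivBase x)).act =
        lift (fst G (G ⊗ trivBase x) * (snd G (G ⊗ trivBase x) ≫ fst G (trivBase x)))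
          (snd G (G ⊗ trivBase x) ≫ snd G (trivBase x)) := rfl
    rw [comp_smul, e, lift_fst, lift_snd_assoc, smul_mul, whiskerLeft_eq, comp_smul, Category.assoc]
  cart := by
    have h := isPullback_point A t
    have e : t ≫ A.π = AlgSt.bHom g (by rw [← hg]; exact Over.w (t ≫ A.π)) := Over.OverMorphism.ext hg
    rw [e] at h
    exact h
  wφ := by
    rw [smul_φ, Category.assoc, hφ]
    show _ = (G ◁ AlgSt.secOver x) ≫ aX.act
    rw [whiskerLeft_eq]

theorem unitPt_ptHom (A : AlgSt.SpQuotObj K G aX) {x : (AlgSt.ofSp X.left).obj} (t : trivBase x ⟶ A.P)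
    (g : x.base ⟶ A.base) (hg : t.left ≫ A.π.left = (yon S).map g) (hφ : t ≫ A.φ = AlgSt.secOver x) :
    unitPt (trivBase x) ≫ (ptHom A t g hg hφ).top = t := by
  show unitPt (trivBase x) ≫ smul A.act (fst G (trivBase x)) (snd G (trivBase x) ≫ t) = t
  rw [comp_smul, lift_fst, lift_snd_assoc, Category.id_comp, smul_one]

theorem top_eq {A : AlgSt.SpQuotObj K G aX} {x : (AlgSt.ofSp X.left).obj}
    (h : (qmap (K := K) (aX := aX)).obj x ⟶ A) :
    h.top = smul A.act (fst G (trivBase x)) (snd G (trivBase x) ≫ unitPt (trivBase x) ≫ h.top) := by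
  have e : smul ((qmap (K := K) (aX := aX)).obj x).act (fst G (trivBase x))
      (snd G (trivBase x) ≫ unitPt (trivBase x)) = (𝟙 _ : G ⊗ trivBase x ⟶ G ⊗ trivBase x) := by
    rw [comp_lift, MonObj.comp_one, Category.comp_id, triv_smul, _root_.mul_one, lift_fst_snd]
  exact ((Category.id_comp _).symm.trans (congrArg (· ≫ h.top) e).symm).trans
    ((top_smul _ h _ _).trans (congrArg _ (Category.assoc _ _ _)))

theorem qhom_ext {A : AlgSt.SpQuotObj K G aX} {x : (AlgSt.ofSp X.left).obj}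
    {h h' : (qmap (K := K) (aX := aX)).obj x ⟶ A} (h1 : h.base = h'.base)
    (h2 : unitPt (trivBase x) ≫ h.top = unitPt (trivBase x) ≫ h'.top) : h = h' :=
  AlgSt.SpQuotObj.hom_ext h1 (by rw [top_eq h, top_eq h', h2])

theorem point_π {A : AlgSt.SpQuotObj K G aX} {x : (AlgSt.ofSp X.left).obj}
    (h : (qmap (K := K) (aX := aX)).obj x ⟶ A) :
    (unitPt (trivBase x) ≫ h.top).left ≫ A.π.left = (yon S).map h.base := by
  rw [Over.comp_left, Category.assoc, left_w _ h, ← Category.assoc, ← Over.comp_left]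
  show (lift 1 (𝟙 (trivBase x)) ≫ snd G (trivBase x)).left ≫ _ = _
  rw [lift_snd]
  exact Category.id_comp _

theorem point_φ {A : AlgSt.SpQuotObj K G aX} {x : (AlgSt.ofSp X.left).obj}
    (h : (qmap (K := K) (aX := aX)).obj x ⟶ A) :
    (unitPt (trivBase x) ≫ h.top) ≫ A.φ = AlgSt.secOver x := by
  rw [Category.assoc, h.wφ, unitPt_φ]

theorem unitPt_map {x x' : (AlgSt.ofSp X.left).obj} (f : x ⟶ x') :
    (unitPt (trivBase x) ≫ ((qmap (K := K) (aX := aX)).map f).top : trivBase x ⟶ G ⊗ trivBase x') =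
      (Over.homMk ((yon S).map f.hom) (by
        show (yon S).map f.hom ≫ AlgSt.secYon x' ≫ X.hom = AlgSt.secYon x ≫ X.hom
        rw [← Category.assoc, AlgSt.secYon_comp]) : trivBase x ⟶ trivBase x') ≫ unitPt (trivBase x') := by
  show lift 1 (𝟙 _) ≫ (G ◁ _) = _ ≫ lift 1 (𝟙 _)
  rw [lift_whiskerLeft, comp_lift, MonObj.comp_one, Category.id_comp, Category.comp_id]

end Groth.Agent.Stk19b.SpQuot
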