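import Groth.Agent.Stk19.Diag
import Groth.Agent.Stk19.RepDiag
import Groth.Agent.Stk19.Fp2

/-! Base changes of a diagonal along pairs with one factor through a point. -/

set_option autoImplicit false
set_option backward.isDefEq.respectTransparency false
set_option backward.isDefEq.respectTransparency.types false

universe v₄ u₄ v₃ u₃ v₂ u₂ v u

open CategoryTheory FibCat

namespace Groth.Agent.Stk19b.SpQuot

open Groth.Agent.Stk19

variable {C : Type u} [Category.{v} C] {𝒳 : BasedCategory.{v₂, u₂} C} {𝒯 : BasedCategory.{v₃, u₃} C}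
  {𝒲 : BasedCategory.{v₄, u₄} C}

variable (a : 𝒯 ⥤ᵇ 𝒳) (q : 𝒲 ⥤ᵇ 𝒳) (w : 𝒯 ⥤ᵇ 𝒲) [𝒲.p.Full] [𝒲.p.Faithful]

/-- If `𝒲` is a point, the fibre product of `a` and `q` is the base change of the diagonal along `(a, w ≫ q)`. -/
theorem exists_equiv_pair :
    ∃ E : fp a q ⥤ᵇ fp (pairSelf a (BasedFunctor.comp w q)) (diag (toSelf 𝒳)),
      IsEquivOver E ∧ BasedFunctor.comp E (fpFst _ _) = fpFst a q := by
  have hb : ∀ s : (fp a q).obj, 𝒲.p.obj (w.obj s.obj.fst) = 𝒲.p.obj s.obj.snd := fun s =>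
    (w.w_obj _).trans (fp_base_eq s).symm
  let κ : ∀ s : (fp a q).obj, w.obj s.obj.fst ≅ s.obj.snd := fun s => 𝒲.p.preimageIso (eqToIso (hb s))
  have hκ : ∀ s, 𝒲.p.map (κ s).hom = eqToHom (hb s) := fun s => 𝒲.p.map_preimage _
  have hq : ∀ s : (fp a q).obj, 𝒳.p.obj (q.obj s.obj.snd) = 𝒯.p.obj s.obj.fst := fun s =>
    (q.w_obj _).trans (fp_base_eq s)
  have hκ' : ∀ s, 𝒳.p.map (q.map (κ s).hom) =
      eqToHom ((q.w_obj _).trans ((hb s).trans (q.w_obj _).symm)) := fun s => by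
    rw [based_map q, hκ]
    simp
  have hp : ∀ s : (fp a q).obj,
      𝒳.p.map (q.toFunctor.mapIso (κ s)).hom =
        eqToHom (fp_base_eq (((pairSelf a (BasedFunctor.comp w q))).obj s.obj.fst)) ≫ 𝒳.p.map s.obj.iso.hom ≫
          eqToHom (fp_base_eq ((diag (toSelf 𝒳)).obj (q.obj s.obj.snd))).symm := fun s => by
    show 𝒳.p.map (q.map (κ s).hom) = _
    rw [hκ', fp_iso_map]
    simp
  let i : BasedFunctor.comp (fpFst a q) (pairSelf a (BasedFunctor.comp w q)) ≅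
      BasedFunctor.comp (BasedFunctor.comp (fpSnd a q) q) (diag (toSelf 𝒳)) :=
    isoMk (fun s => prodIso s.obj.iso (q.toFunctor.mapIso (κ s)) (hp s))
      (fun s => fpIsoMk_vert _ _ _ (vert_change 𝒳.p _ (fp_iso_vert s) rfl))
      (fun {s t} φ => fp_hom_ext φ.hom.w (by
        show q.map (w.map φ.hom.fst) ≫ q.map (κ t).hom = q.map (κ s).hom ≫ q.map φ.hom.snd
        rw [← q.toFunctor.map_comp, ← q.toFunctor.map_comp]
        congr 1
        apply 𝒲.p.map_injective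
        rw [Functor.map_comp, Functor.map_comp, hκ, hκ, based_map w, fp_map_snd φ]
        simp))
  refine ⟨fpLift (fpFst a q) (BasedFunctor.comp (fpSnd a q) q) i, ?_, rfl⟩
  refine EqvData.isEquivOver ⟨⟨fun {s t} k => ?_⟩, ⟨fun {s t} k k' h => ?_⟩, fun z => ?_⟩
  · -- full
    have h1 : a.map k.hom.fst ≫ t.obj.iso.hom = s.obj.iso.hom ≫ k.hom.snd :=
      congrArg (fun m => m.hom.fst) k.hom.w
    have h2 : q.map (w.map k.hom.fst) ≫ q.map (κ t).hom = q.map (κ s).hom ≫ k.hom.snd :=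
      congrArg (fun m => m.hom.snd) k.hom.w
    let m : s.obj.snd ⟶ t.obj.snd := (κ s).inv ≫ w.map k.hom.fst ≫ (κ t).hom
    have hm : q.map m = k.hom.snd := by
      show q.toFunctor.map ((κ s).inv ≫ w.map k.hom.fst ≫ (κ t).hom) = _
      rw [q.toFunctor.map_comp, q.toFunctor.map_comp, h2, ← Category.assoc, ← q.toFunctor.map_comp, Iso.inv_hom_id]
      simp
    exact ⟨fpHom k.hom.fst m (by rw [hm]; exact h1), fp_hom_ext rfl hm⟩
  · -- faithful
    refine fp_hom_ext (congrArg (fun m => m.hom.fst) h :) (𝒲.p.map_injective ?_)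
    rw [fp_map_snd k, fp_map_snd k', show k.hom.fst = k'.hom.fst from (congrArg (fun m => m.hom.fst) h :)]
  · -- essentially surjective
    let t := z.obj.fst
    let y := z.obj.snd
    let β := z.obj.iso
    let β1 : a.obj t ≅ y :=
      { hom := β.hom.hom.fst
        inv := β.inv.hom.fst
        hom_inv_id := congrArg (fun m => m.hom.fst) β.hom_inv_id
        inv_hom_id := congrArg (fun m => m.hom.fst) β.inv_hom_id }
    let β2 : q.obj (w.obj t) ≅ y :=
      { hom := β.hom.hom.snd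
        inv := β.inv.hom.snd
        hom_inv_id := congrArg (fun m => m.hom.snd) β.hom_inv_id
        inv_hom_id := congrArg (fun m => m.hom.snd) β.inv_hom_id }
    have v1 : 𝒳.p.IsHomLift (𝟙 (𝒯.p.obj t)) β1.hom := by
      haveI : (fp (toSelf 𝒳) (toSelf 𝒳)).p.IsHomLift (𝟙 (𝒯.p.obj t)) β.hom := z.property
      exact BasedFunctor.preserves_isHomLift (fpFst (toSelf 𝒳) (toSelf 𝒳)) (𝟙 (𝒯.p.obj t)) β.hom
    have v2 : 𝒳.p.IsHomLift (𝟙 (𝒯.p.obj t)) β2.hom := by
      haveI : (fp (toSelf 𝒳) (toSelf 𝒳)).p.IsHomLift (𝟙 (𝒯.p.obj t)) β.hom := z.property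
      exact BasedFunctor.preserves_isHomLift (fpSnd (toSelf 𝒳) (toSelf 𝒳)) (𝟙 (𝒯.p.obj t)) β.hom
    let s : (fp a q).obj := fpMk t (w.obj t) (β1 ≪≫ β2.symm) (vert_comp 𝒳.p _ _ v1 (vert_inv 𝒳.p β2 v2))
    refine ⟨s, fpIsoMk (Iso.refl _) β2 ?_, fpIsoMk_vert _ _ _ (IsHomLift.id rfl)⟩
    have hκs : (κ s).hom = 𝟙 (w.obj t) := 𝒲.p.map_injective (by rw [hκ]; exact (𝒲.p.map_id _).symm)
    refine fp_hom_ext ?_ ?_
    · show a.map (𝟙 t) ≫ β1.hom = (β1.hom ≫ β2.inv) ≫ β2.hom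
      simp
    · show q.map (w.map (𝟙 t)) ≫ β2.hom = q.map (κ s).hom ≫ β2.hom
      rw [hκs, w.toFunctor.map_id]

end Groth.Agent.Stk19b.SpQuot
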