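import Groth.Agent.Stk19b.SpQuot.SheafOfSetoid
import Groth.Agent.Stk19b.SpQuot.DiagPair
import Groth.Agent.Stk19b.SpQuot.With
import Groth.Agent.Stk19b.SpQuot.Stack
import Groth.Agent.Stk19.AlgSt.Diag

/-! The diagonal of the classifying stack of a group algebraic space (sheaf torsors). -/

set_option autoImplicit false
set_option backward.isDefEq.respectTransparency false
set_option backward.isDefEq.respectTransparency.types false

universe u

open CategoryTheory CategoryTheory.Limits AlgebraicGeometry MonoidalCategory CartesianMonoidalCategory MonObj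
open AlgSp Groth.Agent.Stk19

namespace Groth.Agent.Stk19b.SpQuot

variable {S : Scheme.{u}} {B : Sp S} {G X : Over B} [GrpObj G] {aX : GAction G X}

/-- A functor from a slice to `[X/G]` factors through `X` after an fppf cover. -/
theorem exists_local_point {U : Over S} (b : FibCat.overCat U ⥤ᵇ AlgSt.SpQuotSt Scheme.fppfPrecoverage G aX) :
    ∃ (W : Over S) (c : W ⟶ U), Flat c.left ∧ LocallyOfFinitePresentation c.left ∧ Surjective c.left ∧
      ∃ w : FibCat.overCat W ⥤ᵇ AlgSt.ofSp X.left,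
        Nonempty (BasedFunctor.comp w (qmap (K := Scheme.fppfPrecoverage) (aX := aX)) ≅
          BasedFunctor.comp (AlgSt.overMap c) b) := by
  obtain ⟨W, c₀, h1, h2, h3, t, ht⟩ := exists_cover_point (cls b)
  have hU := cls_base b
  let c : W ⟶ U := c₀ ≫ eqToHom hU
  haveI : IsIso (eqToHom hU).left := inferInstanceAs (IsIso ((Over.forget S).map (eqToHom hU)))
  have ec : c.left = c₀.left ≫ (eqToHom hU).left := rfl
  let s : (yon S).obj W ⟶ X.left := (t ≫ (cls b).φ).left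
  let w : FibCat.overCat W ⥤ᵇ AlgSt.ofSp X.left := BasedFunctor.comp (AlgSt.ofOverCat W) (AlgSt.ofSpMap s)
  let x₁ : (AlgSt.ofSp X.left).obj := w.obj (Over.mk (𝟙 W))
  have hs : AlgSt.secYon x₁ = s := by
    apply (J S).uliftYonedaEquiv.{u + 1}.injective
    exact Equiv.apply_symm_apply _ _
  let t' : trivBase x₁ ⟶ (cls b).P := Over.homMk t.left (by
    show t.left ≫ (cls b).P.hom = AlgSt.secYon x₁ ≫ X.hom
    rw [hs]
    show t.left ≫ (cls b).P.hom = (t.left ≫ (cls b).φ.left) ≫ X.hom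
    rw [Category.assoc, Over.w (cls b).φ])
  let h0 := ptHom (cls b) t' c₀ (congrArg CommaMorphism.left ht) (Over.OverMorphism.ext hs.symm)
  let o₁ : (FibCat.overCat U).obj := (AlgSt.overMap c).obj (Over.mk (𝟙 W))
  have hb₁ : (b.obj o₁).base = W := b.w_obj o₁
  obtain ⟨cc, ⟨hcb, -⟩, -⟩ := existsUnique_fac (toTop b o₁) h0 (eqToHom hb₁.symm) (by
    have e := toTop_map b o₁
    change (toTop b o₁).base = _ at e
    rw [e]
    show _ = c₀
    simp [o₁, AlgSt.overMap, c])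
  obtain ⟨α, -⟩ := yoneda_exists (isFibGrpd G Scheme.fppfPrecoverage aX)
    (BasedFunctor.comp w (qmap (K := Scheme.fppfPrecoverage) (aX := aX))) (BasedFunctor.comp (AlgSt.overMap c) b) cc
    ((vert_iff _ _).2 ⟨rfl, hb₁.symm, hcb⟩)
  haveI := isIso_of_fibGrpd (isFibGrpd G Scheme.fppfPrecoverage aX) α
  exact ⟨W, c, by rw [ec]; infer_instance, by rw [ec]; infer_instance, by rw [ec]; infer_instance, w, ⟨asIso α⟩⟩

variable {U : Over S}
  (z : FibCat.overCat U ⥤ᵇ FibCat.fp (FibCat.toSelf (AlgSt.SpQuotSt Scheme.fppfPrecoverage G aX))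
    (FibCat.toSelf (AlgSt.SpQuotSt Scheme.fppfPrecoverage G aX)))

theorem exists_diag_sheaf :
    ∃ (F : Sp S) (e : AlgSt.ofSp F ⥤ᵇ FibCat.fp z
        (FibCat.diag (FibCat.toSelf (AlgSt.SpQuotSt Scheme.fppfPrecoverage G aX)))), FibCat.IsEquivOver e := by
  let 𝒳 := AlgSt.SpQuotSt Scheme.fppfPrecoverage G aX
  let a := BasedFunctor.comp z (FibCat.fpFst (FibCat.toSelf 𝒳) (FibCat.toSelf 𝒳))
  let b := BasedFunctor.comp z (FibCat.fpSnd (FibCat.toSelf 𝒳) (FibCat.toSelf 𝒳))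
  have hst : Stk.IsStack (J S) 𝒳 := isStack G aX
  have hprod := isStack_fp (F := FibCat.toSelf 𝒳) (G := FibCat.toSelf 𝒳) (J S) hst hst
    (isStack_isPrestack isStack_selfOver)
  haveI : (FibCat.diag (FibCat.toSelf 𝒳)).toFunctor.Faithful :=
    ⟨fun {x y} f g h => congrArg (fun m => m.hom.fst) h⟩
  refine exists_sheaf_of_setoid
    (setoid_fp (F := z) (G := FibCat.diag (FibCat.toSelf 𝒳)) (setoid_of_equiv (isEquivOver_ofOverCat U) (setoid_ofSp _)) hst.1 hprod.1)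
    (isStack_fp (F := z) (G := FibCat.diag (FibCat.toSelf 𝒳)) (J S) (isStack_overCat U) hst (isStack_isPrestack hprod)) fun Z => ?_
  let A : Type (u + 1) := Σ g : Z ⟶ U, {c : b.obj (Over.mk g) ⟶ a.obj (Over.mk g) //
    𝒳.p.map c = eqToHom ((b.w_obj _).trans (a.w_obj _).symm)}
  have hiso : ∀ r : A, IsIso r.2.1 := fun r => by
    haveI : IsIso (r.2.1).base := by
      have e : (r.2.1).base = _ := r.2.2
      rw [e]; infer_instance
    exact isIso_of_base r.2.1
  have hvert : ∀ r : A, 𝒳.p.map (@asIso _ _ _ _ r.2.1 (hiso r)).hom =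
      eqToHom (fp_base_eq (z.obj (Over.mk r.1))) ≫ 𝒳.p.map (Iso.refl (a.obj (Over.mk r.1))).hom ≫
        eqToHom (fp_base_eq ((FibCat.diag (FibCat.toSelf 𝒳)).obj (a.obj (Over.mk r.1)))).symm := fun r => by
    refine r.2.2.trans ?_
    erw [CategoryTheory.Functor.map_id]
    exact (Category.comp_id _).symm
  let o : A → {x : (FibCat.fp z (FibCat.diag (FibCat.toSelf 𝒳))).obj //
      (FibCat.fp z (FibCat.diag (FibCat.toSelf 𝒳))).p.obj x = Z} := fun r =>
    ⟨fpMk (Over.mk r.1) (a.obj (Over.mk r.1))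
      (prodIso (Iso.refl _) (@asIso _ _ _ _ r.2.1 (hiso r)) (hvert r))
      (fpIsoMk_vert _ _ _ (IsHomLift.id (a.w_obj _))), rfl⟩
  refine ⟨A, o, fun x => ?_⟩
  obtain ⟨x, hx⟩ := x
  let o' := x.obj.fst
  let g : Z ⟶ U := eqToHom hx.symm ≫ o'.hom
  let ε : o' ≅ Over.mk g := Over.isoMk (eqToIso hx) (by simp [g])
  let β := x.obj.iso
  let β1 : a.obj o' ≅ x.obj.snd :=
    { hom := β.hom.hom.fst
      inv := β.inv.hom.fst
      hom_inv_id := congrArg (fun m => m.hom.fst) β.hom_inv_id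
      inv_hom_id := congrArg (fun m => m.hom.fst) β.inv_hom_id }
  let β2 : b.obj o' ≅ x.obj.snd :=
    { hom := β.hom.hom.snd
      inv := β.inv.hom.snd
      hom_inv_id := congrArg (fun m => m.hom.snd) β.hom_inv_id
      inv_hom_id := congrArg (fun m => m.hom.snd) β.inv_hom_id }
  have hβ1 : 𝒳.p.map β1.hom = eqToHom ((a.w_obj o').trans (fp_base_eq x).symm) := by
    haveI : (FibCat.fp (FibCat.toSelf 𝒳) (FibCat.toSelf 𝒳)).p.IsHomLift
        (𝟙 ((FibCat.overCat U).p.obj o')) β.hom := x.property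
    haveI : 𝒳.p.IsHomLift (𝟙 ((FibCat.overCat U).p.obj o')) β1.hom :=
      BasedFunctor.preserves_isHomLift (FibCat.fpFst (FibCat.toSelf 𝒳) (FibCat.toSelf 𝒳)) _ β.hom
    exact map_eq_of_vert 𝒳.p (R := (FibCat.overCat U).p.obj o') β1.hom
  have hβ2 : 𝒳.p.map β2.hom = eqToHom ((b.w_obj o').trans (fp_base_eq x).symm) := by
    haveI : (FibCat.fp (FibCat.toSelf 𝒳) (FibCat.toSelf 𝒳)).p.IsHomLift
        (𝟙 ((FibCat.overCat U).p.obj o')) β.hom := x.property
    haveI : 𝒳.p.IsHomLift (𝟙 ((FibCat.overCat U).p.obj o')) β2.hom :=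
      BasedFunctor.preserves_isHomLift (FibCat.fpSnd (FibCat.toSelf 𝒳) (FibCat.toSelf 𝒳)) _ β.hom
    exact map_eq_of_vert 𝒳.p (R := (FibCat.overCat U).p.obj o') β2.hom
  have hβ1i : 𝒳.p.map β1.inv = eqToHom ((fp_base_eq x).trans (a.w_obj o').symm) :=
    (cancel_mono (𝒳.p.map β1.hom)).1 (by rw [← 𝒳.p.map_comp, β1.inv_hom_id, hβ1]; simp)
  let c : b.obj (Over.mk g) ⟶ a.obj (Over.mk g) := b.map ε.inv ≫ β2.hom ≫ β1.inv ≫ a.map ε.hom
  have hc : 𝒳.p.map c = eqToHom ((b.w_obj _).trans (a.w_obj _).symm) := by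
    show 𝒳.p.map (b.map ε.inv ≫ β2.hom ≫ β1.inv ≫ a.map ε.hom) = _
    rw [𝒳.p.map_comp, 𝒳.p.map_comp, 𝒳.p.map_comp, hβ2, hβ1i, based_map b, based_map a]
    simp [ε]
  refine ⟨⟨g, c, hc⟩, (fpIsoMk ε (β1.symm ≪≫ a.toFunctor.mapIso ε) ?_).hom, ?_⟩
  · refine fp_hom_ext ?_ ?_
    · show a.map ε.hom ≫ 𝟙 _ = β1.hom ≫ β1.inv ≫ a.map ε.hom
      simp
    · show b.map ε.hom ≫ b.map ε.inv ≫ β2.hom ≫ β1.inv ≫ a.map ε.hom = β2.hom ≫ β1.inv ≫ a.map ε.hom
      rw [← b.toFunctor.map_comp_assoc, Iso.hom_inv_id]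
      simp
  · show ε.hom.left = _
    rfl

/-- The diagonal of `[X/G]` for `X` a point has the properties of `G ⟶ B`. -/
theorem diag_with [(AlgSt.ofSp X.left).p.Full] [(AlgSt.ofSp X.left).p.Faithful] {P : MorphismProperty (Sp S)}
    (hP : PbStable P) (hR : RespSrc P) (hD : SchDescent P) (hB : IsAlgSpace B) (hG : IsAlgSpace G.left)
    (h : P G.hom) :
    AlgSt.RepByAlgSpWith P (FibCat.diag (FibCat.toSelf (AlgSt.SpQuotSt Scheme.fppfPrecoverage G aX))) := by
  intro U z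
  let 𝒳 := AlgSt.SpQuotSt Scheme.fppfPrecoverage G aX
  let q := qmap (K := Scheme.fppfPrecoverage) (aX := aX)
  let a := BasedFunctor.comp z (FibCat.fpFst (FibCat.toSelf 𝒳) (FibCat.toSelf 𝒳))
  let b := BasedFunctor.comp z (FibCat.fpSnd (FibCat.toSelf 𝒳) (FibCat.toSelf 𝒳))
  obtain ⟨F, e, he⟩ := exists_diag_sheaf z
  let π : F ⟶ (yon S).obj U :=
    AlgSt.spMapOfOver (BasedFunctor.comp e (FibCat.fpFst z (FibCat.diag (FibCat.toSelf 𝒳))))
  obtain ⟨W, c, hc1, hc2, hc3, w, ⟨γi⟩⟩ := exists_local_point b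
  let a' := BasedFunctor.comp (AlgSt.overMap c) a
  let z' := BasedFunctor.comp (AlgSt.overMap c) z
  -- the base change to the cover is the torsor of the first component
  let ζ : pairSelf a' (BasedFunctor.comp w q) ≅ z' :=
    isoMk (fun o => prodIso (Iso.refl _) (appIso γi o) (by
        refine (based_app_map γi.hom o).trans ?_
        erw [CategoryTheory.Functor.map_id]
        simp))
      (fun o => fpIsoMk_vert _ _ _ (IsHomLift.id rfl))
      (fun φ => fp_hom_ext ((Category.comp_id _).trans (Category.id_comp _).symm)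
        (γi.hom.toNatTrans.naturality φ))
  obtain ⟨E₁, hE₁, hE₁f⟩ := exists_equiv_pair a' q w
  obtain ⟨E₂, hE₂, hE₂f, -⟩ := exists_congr (G := FibCat.diag (FibCat.toSelf 𝒳)) ζ (Iso.refl _)
  obtain ⟨e₀, he₀, he₀m⟩ := exists_fp_equiv a'
  let e₁ := BasedFunctor.comp (BasedFunctor.comp e₀ E₁) E₂
  have he₁ : FibCat.IsEquivOver e₁ := isEquivOver_comp (isEquivOver_comp he₀ hE₁) hE₂
  have he₁m : BasedFunctor.comp e₁ (FibCat.fpFst z' _) = BasedFunctor.comp e₀ (FibCat.fpFst a' q) := by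
    show BasedFunctor.comp e₀ (BasedFunctor.comp E₁ (BasedFunctor.comp E₂ (FibCat.fpFst z' _))) = _
    rw [hE₂f, hE₁f]
  -- the base change of the sheaf
  let Q := pullback π ((yon S).map c)
  have sq : IsPullback (pullback.fst π ((yon S).map c)) (pullback.snd π ((yon S).map c)) π ((yon S).map c) :=
    IsPullback.of_hasPullback _ _
  obtain ⟨E₀, hE₀, hE₀f, -⟩ := Stk19.exists_fp_equiv sq.flip
  obtain ⟨i⟩ := spMapOfOver_iso (BasedFunctor.comp e (FibCat.fpFst z (FibCat.diag (FibCat.toSelf 𝒳))))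
  obtain ⟨hfull, hfaith, -⟩ := EqvData.of_isEquivOver (isEquivOver_toOverCat U)
  let M := fpMap (F := AlgSt.ofSpMap ((yon S).map c)) (G := AlgSt.ofSpMap π)
    (F' := AlgSt.overMap c) (G' := FibCat.fpFst z (FibCat.diag (FibCat.toSelf 𝒳)))
    (AlgSt.toOverCat W) e (AlgSt.toOverCat U) (Iso.refl _) i.symm
  let e₂ := BasedFunctor.comp (BasedFunctor.comp E₀ M)
    (fpPaste (AlgSt.overMap c) z (FibCat.diag (FibCat.toSelf 𝒳)))
  have he₂ : FibCat.IsEquivOver e₂ :=
    isEquivOver_comp (isEquivOver_comp hE₀ (isEquivOver_fpMap _ _ _ _ _ (isEquivOver_toOverCat W) he))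
      (isEquivOver_fpPaste _ _ _)
  have he₂m : AlgSt.spMapOfOver (BasedFunctor.comp e₂ (FibCat.fpFst z' _)) = pullback.snd π ((yon S).map c) := by
    have h0 : BasedFunctor.comp e₂ (FibCat.fpFst z' _) =
        BasedFunctor.comp (AlgSt.ofSpMap (pullback.snd π ((yon S).map c))) (AlgSt.toOverCat W) := by
      rw [← hE₀f]
      rfl
    rw [h0, spMapOfOver_ofSpMap_comp, spMapOfOver_toOverCat, Category.comp_id]
  have hV : IsAlgSpace (cls a').P.left := isAlgSpace_P hB hG _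
  obtain ⟨σ, -⟩ := exists_iso_of_two_rep e₁ e₂ he₁ he₂
  have hQ : IsAlgSpace Q := hV.of_iso σ.symm
  have hPQ : P (pullback.snd π ((yon S).map c)) := by
    rw [← he₂m]
    refine repWith_any hR (F := ⟨_, hV⟩) he₁ ?_ (F' := ⟨_, hQ⟩) e₂ he₂
    rw [he₁m, he₀m]
    exact prop_of_group hP hD hB hG h a'
  have hF : IsAlgSpace F := Fppf.isAlgSpace_of_fppf_cover_base c sq hQ
  exact ⟨⟨F, hF⟩, e, he, hD (V := ⟨F, hF⟩) π c hc1 hc2 hc3 hPQ⟩

end Groth.Agent.Stk19b.SpQuot
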