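import Groth.Prelude.Def_AlgSt6
import Groth.Agent.Stk19b.SpQuot.Charts
import Groth.Agent.Stk19.FibGrpd

/-! Base change of objects of `[X/G]` (sheaf torsors); `[X/G]` is fibred in groupoids. -/

set_option autoImplicit false
set_option backward.isDefEq.respectTransparency false
set_option backward.isDefEq.respectTransparency.types false

universe u

open CategoryTheory CategoryTheory.Limits AlgebraicGeometry MonoidalCategory CartesianMonoidalCategory MonObj GrpObj
open AlgSp

namespace Groth.Agent.Stk19b.SpQuot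

variable {S : Scheme.{u}} {B : Sp S} {G X : Over B} [GrpObj G]

/-- `g • x` on points. -/
noncomputable abbrev smul (a : GAction G X) {T : Over B} (g : T ⟶ G) (x : T ⟶ X) : T ⟶ X :=
  lift g x ≫ a.act

theorem smul_mul (a : GAction G X) {T : Over B} (g h : T ⟶ G) (x : T ⟶ X) :
    smul a (g * h) x = smul a g (smul a h x) := by
  rw [Hom.mul_def]
  show lift (lift g h ≫ μ[G]) x ≫ a.act = _
  rw [← lift_whiskerRight, Category.assoc, a.mul_act]
  simp

theorem smul_one (a : GAction G X) {T : Over B} (x : T ⟶ X) : smul a 1 x = x := by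
  rw [Hom.one_def]
  show lift (toUnit T ≫ η[G]) x ≫ a.act = x
  rw [← lift_whiskerRight, Category.assoc, a.one_act, lift_leftUnitor_hom]

theorem comp_smul (a : GAction G X) {T' T : Over B} (k : T' ⟶ T) (g : T ⟶ G) (x : T ⟶ X) :
    k ≫ smul a g x = smul a (k ≫ g) (k ≫ x) := by
  show k ≫ lift g x ≫ a.act = lift (k ≫ g) (k ≫ x) ≫ a.act
  rw [comp_lift_assoc]

theorem whiskerLeft_eq {T Y : Over B} (t : T ⟶ Y) : G ◁ t = lift (fst G T) (snd G T ≫ t) := by
  apply CartesianMonoidalCategory.hom_ext <;> simp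

variable {K : Precoverage Scheme.{u}} {aX : GAction G X}

section Obj

variable (A : AlgSt.SpQuotObj K G aX)

theorem smul_φ {T : Over B} (g : T ⟶ G) (p : T ⟶ A.P) : smul A.act g p ≫ A.φ = smul aX g (p ≫ A.φ) := by
  show (lift g p ≫ A.act.act) ≫ A.φ = lift g (p ≫ A.φ) ≫ aX.act
  rw [Category.assoc, A.eqv, lift_whiskerLeft_assoc]

theorem smul_π {T : Over B} (g : T ⟶ G) (p : T ⟶ A.P) : smul A.act g p ≫ A.π = p ≫ A.π := by
  show (lift g p ≫ A.act.act) ≫ A.π = p ≫ A.π
  rw [Category.assoc, A.cart.w, lift_snd_assoc]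

theorem existsUnique_smul {T : Over B} (p q : T ⟶ A.P) (h : q ≫ A.π = p ≫ A.π) :
    ∃! g : T ⟶ G, smul A.act g p = q := by
  refine ⟨A.cart.lift q p h ≫ fst _ _, ?_, fun g hg => ?_⟩
  · show lift (A.cart.lift q p h ≫ fst _ _) p ≫ A.act.act = q
    have e : lift (A.cart.lift q p h ≫ fst _ _) p = A.cart.lift q p h := by
      apply CartesianMonoidalCategory.hom_ext <;> simp
    rw [e, A.cart.lift_fst]
  · have e : lift g p = A.cart.lift q p h :=
      A.cart.hom_ext (by rw [A.cart.lift_fst]; exact hg) (by simp)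
    rw [← e, lift_fst]

theorem top_smul {A' : AlgSt.SpQuotObj K G aX} (h : A ⟶ A') {T : Over B} (g : T ⟶ G) (p : T ⟶ A.P) :
    smul A.act g p ≫ h.top = smul A'.act g (p ≫ h.top) := by
  show (lift g p ≫ A.act.act) ≫ h.top = lift g (p ≫ h.top) ≫ A'.act.act
  rw [Category.assoc, h.eqv, lift_whiskerLeft_assoc]

theorem left_w {A' : AlgSt.SpQuotObj K G aX} (h : A ⟶ A') :
    h.top.left ≫ A'.π.left = A.π.left ≫ (yon S).map h.base :=
  congrArg CommaMorphism.left h.cart.w

theorem isPullback_left {A' : AlgSt.SpQuotObj K G aX} (h : A ⟶ A') :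
    IsPullback h.top.left A.π.left A'.π.left ((yon S).map h.base) :=
  h.cart.map (Over.forget B)

end Obj

/-- A pseudo-torsor from simple transitivity on points. -/
theorem isPullback_act {P Q : Over B} (a : GAction G P) (π : P ⟶ Q) (w : a.act ≫ π = snd G P ≫ π)
    (h : ∀ ⦃Z : Over S⦄ (c : (yon S).obj Z ⟶ B) (p q : Over.mk c ⟶ P), q ≫ π = p ≫ π →
      ∃! g : Over.mk c ⟶ G, smul a g p = q) :
    IsPullback a.act (snd G P) π π := by
  refine isPullback_of_points w fun Z c q p hqp => ?_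
  obtain ⟨g, hg, hgu⟩ := h c p q hqp
  refine ⟨lift g p, ⟨hg, lift_snd _ _⟩, fun l ⟨h1, h2⟩ => ?_⟩
  have e : l = lift (l ≫ fst G P) p := by
    apply CartesianMonoidalCategory.hom_ext
    · simp
    · rw [lift_snd, h2]
  rw [e, hgu (l ≫ fst G P) (show lift _ p ≫ a.act = q by rw [← e, h1])]

variable [K.IsStableUnderBaseChange]

section Pb

variable (A : AlgSt.SpQuotObj K G aX) {T : Over S} (f : T ⟶ A.base)

/-- The morphism over `B` of a morphism to the base of an object. -/
abbrev bh : Over.mk ((yon S).map f ≫ A.b) ⟶ Over.mk A.b := AlgSt.bHom f rfl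

/-- The action on the base change. -/
noncomputable def pbAct : GAction G (pullback A.π (bh A f)) where
  act := pullback.lift ((G ◁ pullback.fst A.π (bh A f)) ≫ A.act.act) (snd G _ ≫ pullback.snd A.π (bh A f))
    (by rw [Category.assoc, A.cart.w, whiskerLeft_snd_assoc, pullback.condition, Category.assoc])
  one_act := by
    apply pullback.hom_ext
    · rw [Category.assoc, pullback.lift_fst, ← MonoidalCategory.whisker_exchange_assoc, A.act.one_act,
        ← MonoidalCategory.leftUnitor_naturality]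
    · rw [Category.assoc, pullback.lift_snd, whiskerRight_snd_assoc, leftUnitor_hom]
  mul_act := by
    apply pullback.hom_ext
    · rw [Category.assoc, pullback.lift_fst, ← MonoidalCategory.whisker_exchange_assoc, A.act.mul_act]
      simp only [Category.assoc, pullback.lift_fst, ← MonoidalCategory.whiskerLeft_comp_assoc]
      simp
    · simp

theorem smul_pb_fst {Z : Over B} (g : Z ⟶ G) (p : Z ⟶ pullback A.π (bh A f)) :
    smul (pbAct A f) g p ≫ pullback.fst _ _ = smul A.act g (p ≫ pullback.fst _ _) := by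
  show (lift g p ≫ pullback.lift _ _ _) ≫ _ = _
  rw [Category.assoc, pullback.lift_fst, lift_whiskerLeft_assoc]

theorem smul_pb_snd {Z : Over B} (g : Z ⟶ G) (p : Z ⟶ pullback A.π (bh A f)) :
    smul (pbAct A f) g p ≫ pullback.snd _ _ = p ≫ pullback.snd _ _ := by
  show (lift g p ≫ pullback.lift _ _ _) ≫ _ = _
  rw [Category.assoc, pullback.lift_snd, lift_snd_assoc]

theorem hasSecLoc_pullback {P : Sp S} {π : P ⟶ (yon S).obj A.base} (h : AlgSt.HasSecLoc K π) {P' : Sp S}
    {π' : P' ⟶ (yon S).obj T} {q : P' ⟶ P} (hq : IsPullback q π' π ((yon S).map f)) :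
    AlgSt.HasSecLoc K π' := by
  obtain ⟨R, hR, hsec⟩ := h
  obtain ⟨I, Y, g, rfl⟩ := R.exists_eq_ofArrows
  refine ⟨Presieve.ofArrows (fun i => pullback f.left (g i)) (fun i => pullback.fst f.left (g i)),
    Precoverage.mem_coverings_of_isPullback g hR f.left _ (fun i => pullback.snd f.left (g i))
      (fun i => IsPullback.of_hasPullback _ _), ?_⟩
  rintro T' k ⟨i⟩
  obtain ⟨v, hv⟩ := hsec (g i) ⟨i⟩
  let s : Over.mk (pullback.fst f.left (g i) ≫ T.hom) ⟶ Over.mk (g i ≫ A.base.hom) :=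
    Over.homMk (pullback.snd f.left (g i)) (by
      show _ ≫ g i ≫ A.base.hom = _
      rw [← pullback.condition_assoc, Over.w f]
      rfl)
  refine ⟨hq.lift ((yon S).map s ≫ v) ((yon S).map (Over.homMk (pullback.fst f.left (g i)))) ?_,
    hq.lift_snd _ _ _⟩
  rw [Category.assoc, hv, ← Functor.map_comp, ← Functor.map_comp]
  congr 1
  exact Over.OverMorphism.ext pullback.condition.symm

/-- The base change of an object of `[X/G]` along a morphism to its base. -/
noncomputable def pb : AlgSt.SpQuotObj K G aX where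
  base := T
  b := (yon S).map f ≫ A.b
  P := pullback A.π (bh A f)
  act := pbAct A f
  π := pullback.snd A.π (bh A f)
  cart := isPullback_act (pbAct A f) _ (pullback.lift_snd _ _ _) fun Z c p q h => by
    obtain ⟨g, hg, hgu⟩ := existsUnique_smul A (p ≫ pullback.fst A.π (bh A f)) (q ≫ pullback.fst A.π (bh A f))
      (by rw [Category.assoc, Category.assoc, pullback.condition, reassoc_of% h])
    refine ⟨g, pullback.hom_ext ?_ ?_, fun g' hg' => hgu g' ?_⟩
    · rw [smul_pb_fst, hg]
    · rw [smul_pb_snd, h]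
    · show smul A.act g' _ = _
      rw [← smul_pb_fst, show smul (pbAct A f) g' p = q from hg']
  loc := hasSecLoc_pullback A f A.loc ((IsPullback.of_hasPullback A.π (bh A f)).map (Over.forget B))
  φ := pullback.fst A.π (bh A f) ≫ A.φ
  eqv := by
    show pullback.lift _ _ _ ≫ pullback.fst _ _ ≫ A.φ = _
    rw [pullback.lift_fst_assoc, Category.assoc, A.eqv, ← MonoidalCategory.whiskerLeft_comp_assoc]

/-- The base change morphism. -/
noncomputable def pbHom : pb A f ⟶ A where
  base := f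
  wb := rfl
  top := pullback.fst A.π (bh A f)
  eqv := pullback.lift_fst _ _ _
  cart := IsPullback.of_hasPullback _ _
  wφ := rfl

end Pb

theorem existsUnique_fac {A B' C : AlgSt.SpQuotObj K G aX} (ν : B' ⟶ A) (θ : C ⟶ A) (k : C.base ⟶ B'.base)
    (hk : k ≫ ν.base = θ.base) : ∃! c : C ⟶ B', c.base = k ∧ c ≫ ν = θ := by
  have wb : (yon S).map k ≫ B'.b = C.b := by
    rw [← θ.wb, ← ν.wb, ← hk, Functor.map_comp, Category.assoc]
  have hb : AlgSt.bHom k wb ≫ AlgSt.bHom ν.base ν.wb = AlgSt.bHom θ.base θ.wb := Over.OverMorphism.ext (by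
    show (yon S).map k ≫ (yon S).map ν.base = (yon S).map θ.base
    rw [← Functor.map_comp, hk])
  have w : θ.top ≫ A.π = (C.π ≫ AlgSt.bHom k wb) ≫ AlgSt.bHom ν.base ν.wb := by
    rw [θ.cart.w, Category.assoc, hb]
  let top := ν.cart.lift θ.top (C.π ≫ AlgSt.bHom k wb) w
  have h1 : top ≫ ν.top = θ.top := ν.cart.lift_fst _ _ _
  have h2 : top ≫ B'.π = C.π ≫ AlgSt.bHom k wb := ν.cart.lift_snd _ _ _
  refine ⟨{ base := k, wb := wb, top := top, eqv := ?_, cart := ?_, wφ := ?_ },
    ⟨rfl, AlgSt.SpQuotObj.hom_ext hk h1⟩, fun c ⟨hc1, hc2⟩ => ?_⟩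
  · apply ν.cart.hom_ext
    · rw [Category.assoc, h1, θ.eqv, Category.assoc, ν.eqv, ← MonoidalCategory.whiskerLeft_comp_assoc, h1]
    · rw [Category.assoc, h2, Category.assoc, B'.cart.w, whiskerLeft_snd_assoc, h2, reassoc_of% C.cart.w]
  · refine IsPullback.of_right ?_ h2 ν.cart
    rw [h1, hb]
    exact θ.cart
  · rw [← θ.wφ, ← h1, Category.assoc, ν.wφ]
  · refine AlgSt.SpQuotObj.hom_ext hc1 (ν.cart.hom_ext ?_ ?_)
    · rw [h1, ← hc2]; rfl
    · rw [h2, c.cart.w]
      congr 1
      exact Over.OverMorphism.ext (congrArg (yon S).map hc1)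

variable (K G aX) in
theorem isFibGrpd : FibCat.IsFibGrpd (AlgSt.SpQuotSt K G aX).p :=
  Stk19.fibGrpd_mk (fun A {V} f => ⟨pb A f, pbHom A f, rfl, (Category.id_comp _).symm⟩)
    fun φ ψ g hg => existsUnique_fac φ ψ g hg

theorem isIso_of_base {A A' : AlgSt.SpQuotObj K G aX} (h : A ⟶ A') [hi : IsIso h.base] : IsIso h :=
  haveI : IsIso ((AlgSt.SpQuotSt K G aX).p.map h) := hi
  Stk19.fibGrpd_isIso (isFibGrpd G K aX) h

end Groth.Agent.Stk19b.SpQuot
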