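import Groth.Agent.Stk19b.SpQuot.Basic
import Groth.Agent.Stk19.Elem

/-! Gluing of morphisms of `[X/G]` (sheaf torsors). -/

set_option autoImplicit false
set_option backward.isDefEq.respectTransparency false
set_option backward.isDefEq.respectTransparency.types false

universe u

open CategoryTheory CategoryTheory.Limits AlgebraicGeometry MonoidalCategory CartesianMonoidalCategory
open AlgSp

namespace Groth.Agent.Stk19b.SpQuot

variable {S : Scheme.{u}} {B : Sp S} {G X : Over B} [GrpObj G] {K : Precoverage Scheme.{u}}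
  [K.IsStableUnderBaseChange] {aX : GAction G X}

theorem pt_b (A : AlgSt.SpQuotObj K G aX) {Z : Over S} {c : (yon S).obj Z ⟶ B} (k : Over.mk c ⟶ A.P)
    (g : Z ⟶ A.base) (hk : k.left ≫ A.π.left = (yon S).map g) : (yon S).map g ≫ A.b = c := by
  rw [← hk]
  exact Over.w (k ≫ A.π)

/-- The point of the base change given by a point. -/
noncomputable def pbPt (A : AlgSt.SpQuotObj K G aX) {Z : Over S} {c : (yon S).obj Z ⟶ B} (k : Over.mk c ⟶ A.P)
    (g : Z ⟶ A.base) (hk : k.left ≫ A.π.left = (yon S).map g) : Over.mk c ⟶ (pb A g).P :=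
  pullback.lift k (Over.homMk (𝟙 ((yon S).obj Z)) ((Category.id_comp _).trans (pt_b A k g hk)))
    (Over.OverMorphism.ext (hk.trans (Category.id_comp _).symm))

theorem pbPt_top (A : AlgSt.SpQuotObj K G aX) {Z : Over S} {c : (yon S).obj Z ⟶ B} (k : Over.mk c ⟶ A.P)
    (g : Z ⟶ A.base) (hk : k.left ≫ A.π.left = (yon S).map g) : pbPt A k g hk ≫ (pbHom A g).top = k :=
  pullback.lift_fst _ _ _

theorem pbPt_π (A : AlgSt.SpQuotObj K G aX) {Z : Over S} {c : (yon S).obj Z ⟶ B} (k : Over.mk c ⟶ A.P)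
    (g : Z ⟶ A.base) (hk : k.left ≫ A.π.left = (yon S).map g) :
    (pbPt A k g hk).left ≫ (pb A g).π.left = 𝟙 _ :=
  congrArg CommaMorphism.left (pullback.lift_snd (f := A.π) (g := bh A g) k
    (Over.homMk (𝟙 ((yon S).obj Z)) ((Category.id_comp _).trans (pt_b A k g hk)))
    (Over.OverMorphism.ext (hk.trans (Category.id_comp _).symm)))

open Groth.Agent.Stk19 in
theorem homGlue {U : Over S} {R : Sieve U} (hR : R ∈ J S U) : HomGlue (AlgSt.SpQuotSt K G aX) R := by
  rintro x y (rfl : x.base = U) (hy : y.base = x.base) t ht tn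
  have hb : ∀ z ν h, (t z ν h).base = AlgSt.SpQuotObj.Hom.base ν ≫ eqToHom hy.symm := fun z ν h => ht z ν h
  have hmem : ∀ {Z : Over S} (g : Z ⟶ x.base), R g → R ((pbHom x g).base ≫ 𝟙 _) := fun g hg => by
    rw [Category.comp_id]; exact hg
  -- the value at a point does not depend on the arrow through which it factors
  have value : ∀ (z : AlgSt.SpQuotObj K G aX) (ν : z ⟶ x) (h : R (ν.base ≫ 𝟙 _)) ⦃Z : Over S⦄
      (c : (yon S).obj Z ⟶ B) (p : Over.mk c ⟶ z.P) (k : Over.mk c ⟶ x.P) (_ : p ≫ ν.top = k) (g : Z ⟶ x.base)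
      (hk : k.left ≫ x.π.left = (yon S).map g) (hg : R g),
      pbPt x k g hk ≫ (t _ (pbHom x g) (hmem g hg)).top = p ≫ (t z ν h).top := by
    intro z ν h Z c p k hp g hk hg
    let e := (yon S).preimage (p.left ≫ z.π.left)
    have hpe : p.left ≫ z.π.left = (yon S).map e := ((yon S).map_preimage _).symm
    have he : e ≫ ν.base = (pbHom x g).base := (yon S).map_injective (by
      rw [Functor.map_comp, ← hpe, Category.assoc, ← left_w z ν, ← Category.assoc, ← Over.comp_left, hp, hk]
      rfl)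
    obtain ⟨c', ⟨hcb, hc⟩, -⟩ := existsUnique_fac ν (pbHom x g) e he
    have e1 := tn _ _ c' ν h (by rw [hc]; exact hmem g hg)
    simp only [hc] at e1
    have e2 : pbPt x k g hk ≫ c'.top = p := by
      apply ν.cart.hom_ext
      · rw [Category.assoc, hp]
        exact (congrArg (pbPt x k g hk ≫ ·) (congrArg AlgSt.SpQuotObj.Hom.top hc)).trans (pbPt_top x k g hk)
      · rw [Category.assoc, c'.cart.w]
        apply Over.OverMorphism.ext
        show (pbPt x k g hk).left ≫ (pb x g).π.left ≫ (yon S).map c'.base = p.left ≫ z.π.left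
        rw [reassoc_of% (pbPt_π x k g hk), hcb, hpe]
    rw [e1, AlgSt.SpQuotObj.comp_top, reassoc_of% e2]
  obtain ⟨top, htop⟩ := over_exists_glue (M := x.P) (N := y.P) x.π.left hR
    (fun Z c k g hk hg => pbPt x k g hk ≫ (t _ (pbHom x g) (hmem g hg)).top)
    fun Z' Z c c' j j₀ k g hj hk hg hk' hg' => by
      rw [value _ (pbHom x g) (hmem g hg) c' (j ≫ pbPt x k g hk) (j ≫ k)
        (by rw [Category.assoc, pbPt_top]) _ hk' hg', Category.assoc]
  have key : ∀ z (ν : z ⟶ x) h, ν.top ≫ top = (t z ν h).top := fun z ν h => by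
    refine over_hom_ext_of_cover (z.π.left ≫ (yon S).map ν.base) hR fun Z c p g hp hg => ?_
    have hk : (p ≫ ν.top).left ≫ x.π.left = (yon S).map g := by
      rw [Over.comp_left, Category.assoc, left_w z ν, hp]
    rw [← Category.assoc, htop c (p ≫ ν.top) g hk hg, value z ν h c p _ rfl g hk hg]
  have heqv : x.act.act ≫ top = (G ◁ top) ≫ y.act.act := by
    refine over_hom_ext_of_cover ((snd G x.P).left ≫ x.π.left) hR fun Z c k g hk hg => ?_
    have hk' : (k ≫ snd G x.P).left ≫ x.π.left = (yon S).map g := by rw [Over.comp_left, Category.assoc, hk]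
    let ν := pbHom x g
    let p := pbPt x (k ≫ snd G x.P) g hk'
    have hks : k = lift (k ≫ fst G x.P) (p ≫ ν.top) := by
      apply CartesianMonoidalCategory.hom_ext <;> simp [p, ν, pbPt_top]
    let τ := t _ ν (hmem g hg)
    have hτ : ν.top ≫ top = τ.top := key _ ν (hmem g hg)
    calc k ≫ x.act.act ≫ top = smul x.act (k ≫ fst G x.P) (p ≫ ν.top) ≫ top :=
          (congrArg (· ≫ x.act.act ≫ top) hks).trans (Category.assoc _ _ _).symm
      _ = smul (pb x g).act (k ≫ fst G x.P) p ≫ ν.top ≫ top := by rw [← Category.assoc, top_smul]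
      _ = smul y.act (k ≫ fst G x.P) (p ≫ τ.top) := by rw [hτ, top_smul]
      _ = smul y.act (k ≫ fst G x.P) ((p ≫ ν.top) ≫ top) := by rw [Category.assoc, hτ]
      _ = lift (k ≫ fst G x.P) (p ≫ ν.top) ≫ (G ◁ top) ≫ y.act.act := (lift_whiskerLeft_assoc _ _ _ _).symm
      _ = k ≫ (G ◁ top) ≫ y.act.act := congrArg (· ≫ _) hks.symm
  have hwb : (yon S).map (eqToHom hy.symm) ≫ y.b = x.b := by
    refine hom_ext_of_cover (𝟙 _) hR fun Z s g hs hg => ?_
    rw [Category.comp_id] at hs
    subst hs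
    have h' := (t _ (pbHom x g) (hmem g hg)).wb
    rw [hb, Functor.map_comp, Category.assoc] at h'
    exact h'
  have hπl : top.left ≫ y.π.left = x.π.left ≫ (yon S).map (eqToHom hy.symm) := by
    refine hom_ext_of_cover x.π.left hR fun Z s g hs hg => ?_
    have h1 : s ≫ top.left = (pbPt x (ptOf s) g hs ≫ (t _ (pbHom x g) (hmem g hg)).top).left :=
      congrArg CommaMorphism.left (htop _ (ptOf s) g hs hg)
    rw [reassoc_of% h1, Over.comp_left, Category.assoc, left_w _ (t _ (pbHom x g) (hmem g hg)),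
      reassoc_of% (pbPt_π x (ptOf s) g hs), hb, reassoc_of% hs, Functor.map_comp]
    rfl
  have hφ : top ≫ y.φ = x.φ := by
    refine over_hom_ext_of_cover x.π.left hR fun Z c k g hk hg => ?_
    rw [← Category.assoc, htop c k g hk hg, Category.assoc, (t _ (pbHom x g) (hmem g hg)).wφ,
      ← (pbHom x g).wφ, ← Category.assoc, pbPt_top]
  haveI : IsIso top := by
    refine over_isIso_of_cover (y.π.left ≫ (yon S).map (eqToHom hy)) hR top fun Z c k g hk hg => ?_
    let ν := pbHom x g
    let τ := t _ ν (hmem g hg)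
    have hkb : k.left ≫ y.π.left = (yon S).map (g ≫ eqToHom hy.symm) := by
      rw [Functor.map_comp, ← hk]; simp [← Functor.map_comp]
    have hc : (yon S).map g ≫ x.b = c := by
      rw [← hwb, ← Functor.map_comp_assoc, pt_b y k _ hkb]
    let idp : Over.mk c ⟶ Over.mk (pb x g).b :=
      Over.homMk (𝟙 ((yon S).obj Z)) ((Category.id_comp _).trans hc)
    have hτ : k ≫ y.π = idp ≫ AlgSt.bHom τ.base τ.wb := Over.OverMorphism.ext (by
      show k.left ≫ y.π.left = 𝟙 _ ≫ (yon S).map τ.base
      rw [hkb, hb, Category.id_comp]; rfl)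
    refine ⟨τ.cart.lift k idp hτ ≫ ν.top, ?_, fun l hl => ?_⟩
    · show (_ ≫ _) ≫ top = k
      rw [Category.assoc, key _ ν (hmem g hg)]
      exact τ.cart.lift_fst _ _ _
    · have hlx : l.left ≫ x.π.left = (yon S).map g := by
        have h2 := congrArg (fun q => CommaMorphism.left q ≫ y.π.left ≫ (yon S).map (eqToHom hy)) hl
        simp only [Over.comp_left, Category.assoc, reassoc_of% hπl, ← Functor.map_comp, eqToHom_trans,
          eqToHom_refl, CategoryTheory.Functor.map_id, Category.comp_id] at h2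
        exact h2.trans hk
      have e : pbPt x l g hlx = τ.cart.lift k idp hτ := by
        apply τ.cart.hom_ext
        · rw [τ.cart.lift_fst, ← key _ ν (hmem g hg), ← Category.assoc, pbPt_top]
          exact hl
        · rw [τ.cart.lift_snd]
          exact Over.OverMorphism.ext (pbPt_π x l g hlx)
      rw [← e, pbPt_top]
  haveI : IsIso (AlgSt.bHom (eqToHom hy.symm) hwb) := by
    haveI : IsIso ((Over.forget B).map (AlgSt.bHom (eqToHom hy.symm) hwb)) :=
      inferInstanceAs (IsIso ((yon S).map (eqToHom hy.symm)))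
    exact isIso_of_reflects_iso _ (Over.forget B)
  refine ⟨{ base := eqToHom hy.symm, wb := hwb, top := top, eqv := heqv,
            cart := IsPullback.of_horiz_isIso ⟨Over.OverMorphism.ext hπl⟩, wφ := hφ },
    ⟨rfl, fun z ν h => AlgSt.SpQuotObj.hom_ext (hb z ν h).symm (key z ν h)⟩, ?_⟩
  rintro χ ⟨h1, h2⟩
  refine AlgSt.SpQuotObj.hom_ext h1 (over_hom_ext_of_cover x.π.left hR fun Z c k g hk hg => ?_)
  show k ≫ χ.top = k ≫ top
  rw [htop c k g hk hg, ← h2 _ (pbHom x g) (hmem g hg), AlgSt.SpQuotObj.comp_top, ← Category.assoc, pbPt_top]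

end Groth.Agent.Stk19b.SpQuot
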