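import Groth.Agent.Stk19b.SpQuot.PointHom
import Groth.Agent.Stk19.Glue
import Groth.Agent.Stk19.Fp
import Groth.Agent.Stk19.AlgSt.Local

/-! Base changes of the canonical map `X ⟶ [X/G]` are the torsors. -/

set_option autoImplicit false
set_option backward.isDefEq.respectTransparency false
set_option backward.isDefEq.respectTransparency.types false

universe u

open CategoryTheory CategoryTheory.Limits AlgebraicGeometry MonoidalCategory CartesianMonoidalCategory MonObj
open AlgSp Groth.Agent.Stk19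

namespace Groth.Agent.Stk19b.SpQuot

variable {S : Scheme.{u}} {B : Sp S} {G X : Over B} [GrpObj G] {K : Precoverage Scheme.{u}}
  [K.HasIsos] [K.IsStableUnderBaseChange] {aX : GAction G X} {U : Over S}
  (y : FibCat.overCat U ⥤ᵇ AlgSt.SpQuotSt K G aX)

/-- The torsor classified by `y`. -/
abbrev cls : AlgSt.SpQuotObj K G aX := y.obj (Over.mk (𝟙 U))

theorem cls_base : (cls y).base = U := y.w_obj _

/-- Its map to `h_U`. -/
noncomputable abbrev clsMap : (cls y).P.left ⟶ (yon S).obj U :=
  (cls y).π.left ≫ (yon S).map (eqToHom (cls_base y))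

theorem exists_fp_equiv :
    ∃ e : AlgSt.ofSp (cls y).P.left ⥤ᵇ FibCat.fp y (qmap (K := K) (aX := aX)),
      FibCat.IsEquivOver e ∧ AlgSt.spMapOfOver (BasedFunctor.comp e (FibCat.fpFst _ _)) = clsMap y := by
  let A := cls y
  have hU : A.base = U := cls_base y
  let pt : ∀ (a : (AlgSt.ofSp A.P.left).obj), (yon S).obj a.base ⟶ A.P.left := fun a => AlgSt.secYon a
  let gg : ∀ (a : (AlgSt.ofSp A.P.left).obj), a.base ⟶ A.base := fun a => (yon S).preimage (pt a ≫ A.π.left)
  let xx : (AlgSt.ofSp A.P.left).obj → (AlgSt.ofSp X.left).obj := fun a =>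
    ⟨a.base, (J S).uliftYonedaEquiv.{u + 1} (pt a ≫ A.φ.left)⟩
  have hxx : ∀ a, AlgSt.secYon (xx a) = pt a ≫ A.φ.left := fun a => Equiv.symm_apply_apply _ _
  let tt : ∀ a, trivBase (xx a) ⟶ A.P := fun a => Over.homMk (pt a) (by
    show pt a ≫ A.P.hom = AlgSt.secYon (xx a) ≫ X.hom
    rw [hxx, Category.assoc]
    exact congrArg (pt a ≫ ·) (Over.w A.φ).symm)
  have htφ : ∀ a, tt a ≫ A.φ = AlgSt.secOver (xx a) := fun a => Over.OverMorphism.ext (hxx a).symm
  let hh : ∀ a, (qmap (K := K) (aX := aX)).obj (xx a) ⟶ A := fun a =>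
    ptHom A (tt a) (gg a) ((yon S).map_preimage _).symm (htφ a)
  let oo : (AlgSt.ofSp A.P.left).obj → (FibCat.overCat U).obj := fun a => Over.mk (gg a ≫ eqToHom hU)
  have hbase : ∀ a, (y.obj (oo a)).base = a.base := fun a => y.w_obj _
  have hex : ∀ a, ∃ c : (qmap (K := K) (aX := aX)).obj (xx a) ⟶ y.obj (oo a),
      c.base = eqToHom (hbase a).symm ∧ c ≫ toTop y (oo a) = hh a := fun a => by
    obtain ⟨c, hc, -⟩ := existsUnique_fac (toTop y (oo a)) (hh a) (eqToHom (hbase a).symm) (by
      have := toTop_map y (oo a)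
      change (toTop y (oo a)).base = _ at this
      rw [this]
      show _ = gg a
      simp [oo])
    exact ⟨c, hc⟩
  choose cc hcb hct using hex
  have hiso : ∀ a, IsIso (cc a) := fun a => by
    haveI : IsIso (cc a).base := by rw [hcb]; infer_instance
    exact isIso_of_base (cc a)
  let obj : (AlgSt.ofSp A.P.left).obj → (FibCat.fp y (qmap (K := K) (aX := aX))).obj := fun a =>
    fpMk (oo a) (xx a) (@asIso _ _ _ _ (cc a) (hiso a)).symm (by
      refine (vert_iff _ _).2 ⟨y.w_obj _, hbase a, ?_⟩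
      show (inv (cc a) : y.obj (oo a) ⟶ _).base = _
      have h : (inv (cc a)).base ≫ (cc a).base = 𝟙 _ := by
        rw [← AlgSt.SpQuotObj.comp_base, IsIso.inv_hom_id]; rfl
      rw [hcb] at h
      have h' := congrArg (· ≫ eqToHom (hbase a)) h
      simpa using h')
  have hsec : ∀ {a b : (AlgSt.ofSp A.P.left).obj} (f : a ⟶ b), (yon S).map f.hom ≫ pt b = pt a :=
    fun f => AlgSt.secYon_comp (X := A.P) f
  have hg : ∀ {a b : (AlgSt.ofSp A.P.left).obj} (f : a ⟶ b), f.hom ≫ gg b = gg a := fun {a b} f =>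
    (yon S).map_injective (by
      rw [Functor.map_comp, (yon S).map_preimage, (yon S).map_preimage, ← Category.assoc, hsec])
  let xmap : ∀ {a b : (AlgSt.ofSp A.P.left).obj} (_ : a ⟶ b), xx a ⟶ xx b := fun {a b} f =>
    ⟨f.hom, by
      show X.left.obj.map f.hom.op ((J S).uliftYonedaEquiv.{u + 1} (pt b ≫ A.φ.left)) = _
      rw [GrothendieckTopology.uliftYonedaEquiv_naturality, ← Category.assoc, hsec f]⟩
  let omap : ∀ {a b : (AlgSt.ofSp A.P.left).obj} (_ : a ⟶ b), oo a ⟶ oo b := fun {a b} f =>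
    Over.homMk f.hom (by
      show f.hom ≫ gg b ≫ eqToHom hU = gg a ≫ eqToHom hU
      rw [← Category.assoc, hg])
  have hmap : ∀ {a b : (AlgSt.ofSp A.P.left).obj} (f : a ⟶ b),
      cc a ≫ y.map (omap f) = (qmap (K := K) (aX := aX)).map (xmap f) ≫ cc b := fun {a b} f => by
    refine fibGrpd_ext (isFibGrpd G K aX) (toTop y (oo b)) ?_ ?_
    · show (cc a ≫ y.map (omap f)).base = ((qmap (K := K) (aX := aX)).map (xmap f) ≫ cc b).base
      have e : (y.map (omap f)).base = eqToHom (hbase a) ≫ f.hom ≫ eqToHom (hbase b).symm := based_map y (omap f)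
      rw [AlgSt.SpQuotObj.comp_base, AlgSt.SpQuotObj.comp_base, hcb, hcb, e]
      show _ = f.hom ≫ eqToHom _
      simp
    · rw [Category.assoc, toTop_comp, hct, Category.assoc, hct]
      refine qhom_ext (hg f).symm ?_
      rw [AlgSt.SpQuotObj.comp_top, ← Category.assoc, unitPt_map, Category.assoc]
      rw [unitPt_ptHom, unitPt_ptHom]
      exact Over.OverMorphism.ext (hsec f).symm
  let mm : ∀ {a b : (AlgSt.ofSp A.P.left).obj} (_ : a ⟶ b), obj a ⟶ obj b := fun {a b} f =>
    fpHom (omap f) (xmap f) (by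
      have h := hmap f
      show y.map (omap f) ≫ inv (cc b) = inv (cc a) ≫ (qmap (K := K) (aX := aX)).map (xmap f)
      rw [IsIso.eq_inv_comp, ← Category.assoc, IsIso.comp_inv_eq, h])
  let e : AlgSt.ofSp A.P.left ⥤ᵇ FibCat.fp y (qmap (K := K) (aX := aX)) :=
    { toFunctor :=
        { obj := obj
          map := mm
          map_id := fun a => fp_hom_ext (Over.OverMorphism.ext rfl) (Stk.EltObj.hom_ext rfl)
          map_comp := fun f g => fp_hom_ext (Over.OverMorphism.ext rfl) (Stk.EltObj.hom_ext rfl) }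
      w := rfl }
  refine ⟨e, EqvData.isEquivOver ⟨⟨fun {a b} φ => ?_⟩, ⟨fun {a b} f f' h => ?_⟩, fun ob => ?_⟩, ?_⟩
  · -- full
    let k : a.base ⟶ b.base := φ.hom.fst.left
    have hsnd : (φ.hom.snd).hom = k := by
      have := fp_map_snd φ
      simpa using this
    have hk : k ≫ gg b = gg a := by
      have := Over.w φ.hom.fst
      change k ≫ gg b ≫ eqToHom hU = gg a ≫ eqToHom hU at this
      rw [← cancel_mono (eqToHom hU), Category.assoc]
      exact this
    have hw : cc a ≫ y.map φ.hom.fst = (qmap (K := K) (aX := aX)).map φ.hom.snd ≫ cc b := by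
      have h := φ.hom.w
      change y.map φ.hom.fst ≫ inv (cc b) = inv (cc a) ≫ (qmap (K := K) (aX := aX)).map φ.hom.snd at h
      rw [IsIso.eq_inv_comp, ← Category.assoc, IsIso.comp_inv_eq] at h
      exact h
    have h2 := congrArg (fun q => q ≫ toTop y (oo b)) hw
    have h2' : cc a ≫ y.map φ.hom.fst ≫ toTop y (oo b) = (qmap (K := K) (aX := aX)).map φ.hom.snd ≫ hh b :=
      ((Category.assoc _ _ _).symm.trans h2).trans ((Category.assoc _ _ _).trans (congrArg (_ ≫ ·) (hct b)))
    replace h2 : hh a = (qmap (K := K) (aX := aX)).map φ.hom.snd ≫ hh b :=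
      ((hct a).symm.trans (congrArg (cc a ≫ ·) (toTop_comp y (a := oo a) (b := oo b) φ.hom.fst).symm)).trans h2'
    have h3 := congrArg (fun q => (unitPt (trivBase (xx a)) ≫ AlgSt.SpQuotObj.Hom.top q).left) h2
    have e1 : unitPt (trivBase (xx a)) ≫ ((qmap (K := K) (aX := aX)).map φ.hom.snd ≫ hh b).top =
        (Over.homMk ((yon S).map φ.hom.snd.hom) (by
          show (yon S).map φ.hom.snd.hom ≫ AlgSt.secYon (xx b) ≫ X.hom = AlgSt.secYon (xx a) ≫ X.hom
          exact (Category.assoc _ _ _).symm.trans (congrArg (· ≫ X.hom) (AlgSt.secYon_comp φ.hom.snd))) :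
          trivBase (xx a) ⟶ trivBase (xx b)) ≫ tt b := by
      rw [AlgSt.SpQuotObj.comp_top, ← Category.assoc, unitPt_map, Category.assoc, unitPt_ptHom]
    simp only [e1] at h3
    rw [unitPt_ptHom] at h3
    change pt a = (yon S).map φ.hom.snd.hom ≫ pt b at h3
    rw [hsnd] at h3
    have hs : (A.P.left).obj.map k.op b.sec = a.sec := by
      apply (J S).uliftYonedaEquiv.{u + 1}.symm.injective
      exact (GrothendieckTopology.uliftYonedaEquiv_symm_naturality_left _ _ _ _).symm.trans h3.symm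
    exact ⟨⟨k, hs⟩, fp_hom_ext (Over.OverMorphism.ext rfl) (Stk.EltObj.hom_ext hsnd.symm)⟩
  · -- faithful
    exact Stk.EltObj.hom_ext (congrArg (fun q => q.hom.fst.left) h)
  · -- essentially surjective
    let o := ob.obj.fst
    let x := ob.obj.snd
    have hxo : x.base = o.left := fp_base_eq ob
    let h : (qmap (K := K) (aX := aX)).obj x ⟶ A := ob.obj.iso.inv ≫ toTop y o
    have hb : h.base = eqToHom hxo ≫ o.hom ≫ eqToHom hU.symm := by
      have e1 := toTop_map y o
      have e2 : ((AlgSt.SpQuotSt K G aX).p.map ob.obj.iso.inv) = eqToHom (hxo.trans (y.w_obj o).symm) :=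
        (cancel_mono ((AlgSt.SpQuotSt K G aX).p.map ob.obj.iso.hom)).1 (by
          rw [← (AlgSt.SpQuotSt K G aX).p.map_comp, ob.obj.iso.inv_hom_id, fp_iso_map]
          simp)
      show ((AlgSt.SpQuotSt K G aX).p.map (ob.obj.iso.inv ≫ toTop y o)) = _
      rw [Functor.map_comp, e1, e2]
      simp
    let t := unitPt (trivBase x) ≫ h.top
    let a : (AlgSt.ofSp A.P.left).obj := ⟨x.base, (J S).uliftYonedaEquiv.{u + 1} t.left⟩
    have hpt : pt a = t.left := Equiv.symm_apply_apply _ _
    have hga : gg a = h.base := (yon S).map_injective (by rw [(yon S).map_preimage, hpt]; exact point_π h)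
    have hxa : xx a = x := by
      have hsec : (J S).uliftYonedaEquiv.{u + 1} (pt a ≫ A.φ.left) = x.sec := by
        rw [hpt, ← Over.comp_left, point_φ h]
        exact Equiv.apply_symm_apply _ _
      show (⟨x.base, _⟩ : (AlgSt.ofSp X.left).obj) = ⟨x.base, x.sec⟩
      rw [hsec]
    let ε : oo a ≅ o := Over.isoMk (eqToIso hxo) (by
      show eqToHom hxo ≫ o.hom = gg a ≫ eqToHom hU
      rw [hga, hb]; simp)
    refine ⟨a, fpIsoMk ε (eqToIso hxa) ?_, fpIsoMk_vert _ _ _ ((vert_iff _ _).2 ⟨hxo, hxo, rfl⟩)⟩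
    show y.map ε.hom ≫ ob.obj.iso.hom = inv (cc a) ≫ (qmap (K := K) (aX := aX)).map (eqToHom hxa)
    rw [IsIso.eq_inv_comp, ← Category.assoc, ← Iso.eq_comp_inv]
    have hx' : (eqToHom hxa : xx a ⟶ x).hom = 𝟙 x.base := by
      have : ∀ {p q : (AlgSt.ofSp X.left).obj} (e : p = q), (eqToHom e : p ⟶ q).hom = eqToHom (congrArg Stk.EltObj.base e) := by
        rintro p _ rfl; rfl
      exact this hxa
    refine fibGrpd_ext (isFibGrpd G K aX) (toTop y o) ?_ ?_
    · have e2 : ((AlgSt.SpQuotSt K G aX).p.map ob.obj.iso.inv) = eqToHom (hxo.trans (y.w_obj o).symm) :=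
        (cancel_mono ((AlgSt.SpQuotSt K G aX).p.map ob.obj.iso.hom)).1 (by
          rw [← (AlgSt.SpQuotSt K G aX).p.map_comp, ob.obj.iso.inv_hom_id, fp_iso_map]
          simp)
      rw [Functor.map_comp, Functor.map_comp, e2, based_map y, based_map (qmap (K := K) (aX := aX))]
      show (cc a).base ≫ _ = _
      rw [hcb]
      simp [hx', ε]
      exact (Category.id_comp _).symm
    · rw [Category.assoc, toTop_comp, hct, Category.assoc]
      refine qhom_ext ?_ ?_
      · show gg a = (eqToHom hxa : xx a ⟶ x).hom ≫ h.base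
        rw [hx', hga]
        exact (Category.id_comp _).symm
      · rw [unitPt_ptHom, AlgSt.SpQuotObj.comp_top, ← Category.assoc, unitPt_map, Category.assoc]
        apply Over.OverMorphism.ext
        show pt a = (yon S).map (eqToHom hxa : xx a ⟶ x).hom ≫ t.left
        rw [hx', hpt]
        exact ((congrArg (· ≫ t.left) ((yon S).map_id x.base)).trans (Category.id_comp _)).symm
  · -- the projection
    refine sp_hom_ext fun Z s => ?_
    apply (J S).uliftYonedaEquiv.{u + 1}.injective
    rw [GrothendieckTopology.uliftYonedaEquiv_comp]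
    show ULift.up (AlgSt.secHom _ (⟨Z, (J S).uliftYonedaEquiv.{u + 1} s⟩ : (AlgSt.ofSp A.P.left).obj)) = _
    let a : (AlgSt.ofSp A.P.left).obj := ⟨Z, (J S).uliftYonedaEquiv.{u + 1} s⟩
    have hps : pt a = s := Equiv.symm_apply_apply _ _
    have e : s ≫ clsMap y = (yon S).map (gg a ≫ eqToHom hU) := by
      rw [Functor.map_comp, (yon S).map_preimage, hps, Category.assoc]
    rw [e]
    refine Eq.trans ?_ (GrothendieckTopology.uliftYonedaEquiv_uliftYoneda_map _ _).symm
    exact congrArg ULift.up (Category.id_comp _)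

end Groth.Agent.Stk19b.SpQuot
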