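import Groth.Agent.Stk19.AlgSt.Over
import Groth.Agent.Stk19.AlgSt.Sp

/-! A small stack in setoids over schemes is a sheaf. -/

set_option autoImplicit false
set_option backward.isDefEq.respectTransparency false
set_option backward.isDefEq.respectTransparency.types false

universe w v₂ u₂ u

open CategoryTheory CategoryTheory.Limits AlgebraicGeometry Opposite
open Groth.Agent.Stk19

namespace Groth.Agent.Stk19b.SpQuot

variable {S : Scheme.{u}}

section Shrink

variable (P : (Over S)ᵒᵖ ⥤ Type w) [∀ Z, Small.{u + 1} (P.obj Z)]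

/-- A presheaf with small values in the standard universe. -/
noncomputable def shrinkPsh : (Over S)ᵒᵖ ⥤ Type (u + 1) where
  obj Z := Shrink.{u + 1} (P.obj Z)
  map {Z Z'} f := ↾fun s => equivShrink _ (P.map f ((equivShrink _).symm s))
  map_id Z := by
    ext s
    simp
  map_comp f g := by
    ext s
    simp

/-- The comparison of categories of a presheaf and of its small model. -/
noncomputable def shrinkFun : Stk.ofPsh P ⥤ᵇ Stk.ofPsh (shrinkPsh P) where
  toFunctor :=
    { obj := fun a => ⟨a.base, equivShrink _ a.sec⟩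
      map := fun {a b} φ => ⟨φ.hom, by
        show equivShrink _ (P.map φ.hom.op ((equivShrink _).symm (equivShrink _ b.sec))) = _
        rw [Equiv.symm_apply_apply, φ.map_sec]⟩
      map_id := fun _ => Stk.EltObj.hom_ext rfl
      map_comp := fun _ _ => Stk.EltObj.hom_ext rfl }
  w := rfl

theorem isEquivOver_shrinkFun : FibCat.IsEquivOver (shrinkFun P) := by
  refine EqvData.isEquivOver ⟨⟨fun {a b} k => ?_⟩, ⟨fun {a b} f f' h => ?_⟩, fun ob => ?_⟩
  · refine ⟨⟨k.hom, ?_⟩, Stk.EltObj.hom_ext rfl⟩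
    have h : equivShrink _ (P.map k.hom.op ((equivShrink _).symm (equivShrink _ b.sec))) = equivShrink _ a.sec :=
      k.map_sec
    rw [Equiv.symm_apply_apply] at h
    exact (equivShrink _).injective h
  · exact Stk.EltObj.hom_ext (congrArg Stk.EltObj.Hom.hom h :)
  · obtain ⟨Z, s⟩ := ob
    refine ⟨⟨Z, (equivShrink _).symm s⟩, eqToIso ?_, (vert_iff _ _).2 ⟨rfl, rfl, ?_⟩⟩
    · show (⟨Z, equivShrink _ ((equivShrink _).symm s)⟩ : Stk.EltObj (shrinkPsh P)) = ⟨Z, s⟩
      rw [Equiv.apply_symm_apply]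
    · exact eqToHom_map (Stk.ofPsh (shrinkPsh P)).p (show (⟨Z, equivShrink _ ((equivShrink _).symm s)⟩ : Stk.EltObj (shrinkPsh P)) = ⟨Z, s⟩ by rw [Equiv.apply_symm_apply])

end Shrink

variable {𝒳 : BasedCategory.{v₂, u₂} (Over S)}

/-- A stack in setoids with small fibres is the category of a sheaf. -/
theorem exists_sheaf_of_setoid (h : FibCat.IsFibSetoid 𝒳.p) (hst : Stk.IsStack (AlgSp.J S) 𝒳)
    (hsmall : ∀ Z : Over S, ∃ (A : Type (u + 1)) (o : A → {x : 𝒳.obj // 𝒳.p.obj x = Z}),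
      ∀ x : {x : 𝒳.obj // 𝒳.p.obj x = Z}, ∃ (a : A) (φ : x.1 ⟶ (o a).1),
        𝒳.p.map φ = eqToHom (x.2.trans (o a).2.symm)) :
    ∃ (F : AlgSp.Sp S) (e : AlgSt.ofSp F ⥤ᵇ 𝒳), FibCat.IsEquivOver e := by
  obtain ⟨P, E, hE⟩ := exists_psh_of_setoid h
  haveI : ∀ Z, Small.{u + 1} (P.obj Z) := fun Z => by
    obtain ⟨A, o, ho⟩ := hsmall Z.unop
    refine small_of_surjective (f := fun a : A => P.map (eqToHom (o a).2.symm).op (secOf E (o a).1)) fun s => ?_
    obtain ⟨x, e, he⟩ := (EqvData.of_isEquivOver hE).surj ⟨Z.unop, s⟩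
    obtain ⟨-, hb, hm⟩ := (vert_iff _ _).1 he
    change e.hom.hom = eqToHom hb at hm
    have hx : 𝒳.p.obj x = Z.unop := ((E.w_obj x).symm.trans hb :)
    obtain ⟨a, φ, hφ⟩ := ho ⟨x, hx⟩
    refine ⟨a, ?_⟩
    have h1 : P.map (eqToHom hb).op s = (E.obj x).sec := hm ▸ e.hom.map_sec
    show P.map _ (secOf E (o a).1) = s
    have h2 : P.map (eqToHom hx.symm).op (secOf E x) = P.map (eqToHom (o a).2.symm).op (secOf E (o a).1) := by
      rw [← secOf_compat E φ, hφ]
      simp only [← Functor.map_comp_apply, ← op_comp, eqToHom_trans]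
    rw [← h2, secOf, ← h1]
    simp only [← Functor.map_comp_apply, ← op_comp, eqToHom_trans, eqToHom_refl, op_id, Functor.map_id_apply]
    exact Functor.map_id_apply P Z s
  have hE' := isEquivOver_comp hE (isEquivOver_shrinkFun P)
  obtain ⟨G, hG, -, -⟩ := exists_inverse hE'
  have hsh : Presieve.IsSheaf (AlgSp.J S) (shrinkPsh P) :=
    (isStack_ofPsh_iff _).1 ((isStack_iff_of_equiv _ hE').1 hst)
  exact ⟨⟨shrinkPsh P, (isSheaf_iff_isSheaf_of_type _ _).2 hsh⟩, G, hG⟩

end Groth.Agent.Stk19b.SpQuot
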