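import Groth.Agent.Stk19b.SpQuot.Basic
import Groth.Agent.Stk19.Equiv
import Mathlib.CategoryTheory.Sites.Adjunction

/-! The glued sheaf of a descent datum of objects of `[X/G]` on a covering sieve. -/

set_option autoImplicit false
set_option backward.isDefEq.respectTransparency false
set_option backward.isDefEq.respectTransparency.types false

universe u

open CategoryTheory CategoryTheory.Limits AlgebraicGeometry Opposite MonoidalCategory CartesianMonoidalCategory
open AlgSp Groth.Agent.Stk19

namespace Groth.Agent.Stk19b.SpQuot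

variable {S : Scheme.{u}} {B : Sp S} {G X : Over B} [GrpObj G] {K : Precoverage Scheme.{u}} {aX : GAction G X}
  {U : Over S} {R : Sieve U} (D : Stk.sieveCat R ⥤ᵇ AlgSt.SpQuotSt K G aX)

/-- An arrow of the sieve as an object of its category. -/
abbrev sObj {Z : Over S} (r : Z ⟶ U) (hr : R r) : (Stk.sieveCat R).obj := ⟨Over.mk r, hr⟩

/-- A morphism of the category of a sieve. -/
abbrev sHom {a b : (Stk.sieveCat R).obj} (k : a.obj.left ⟶ b.obj.left) (h : k ≫ b.obj.hom = a.obj.hom) : a ⟶ b :=
  ObjectProperty.homMk (Over.homMk k h)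

theorem sHom_ext {a b : (Stk.sieveCat R).obj} {φ ψ : a ⟶ b} (h : φ.hom.left = ψ.hom.left) : φ = ψ :=
  ObjectProperty.hom_ext _ (Over.OverMorphism.ext h)

noncomputable abbrev tot (a : (Stk.sieveCat R).obj) : Over B := (D.obj a).P

theorem base_eq (a : (Stk.sieveCat R).obj) : (D.obj a).base = a.obj.left := D.w_obj a

/-- The structure map of a member of the datum. -/
noncomputable def proj (a : (Stk.sieveCat R).obj) : (tot D a).left ⟶ (yon S).obj a.obj.left :=
  (D.obj a).π.left ≫ (yon S).map (eqToHom (base_eq D a))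

/-- The section of the base of a member of the datum. -/
noncomputable def bsec (a : (Stk.sieveCat R).obj) : (yon S).obj a.obj.left ⟶ B :=
  (yon S).map (eqToHom (base_eq D a).symm) ≫ (D.obj a).b

theorem tot_hom (a : (Stk.sieveCat R).obj) : (tot D a).hom = proj D a ≫ bsec D a := by
  rw [proj, bsec, Category.assoc, ← Functor.map_comp_assoc, eqToHom_trans, eqToHom_refl,
    CategoryTheory.Functor.map_id, Category.id_comp]
  exact (Over.w (D.obj a).π).symm

/-- The map of total sheaves of an arrow of the sieve. -/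
noncomputable abbrev topMap {a b : (Stk.sieveCat R).obj} (φ : a ⟶ b) : tot D a ⟶ tot D b := (D.map φ).top

theorem topMap_comp {a b c : (Stk.sieveCat R).obj} (φ : a ⟶ b) (ψ : b ⟶ c) :
    topMap D (φ ≫ ψ) = topMap D φ ≫ topMap D ψ := by
  rw [topMap, D.map_comp]
  rfl

theorem topMap_id (a : (Stk.sieveCat R).obj) : topMap D (𝟙 a) = 𝟙 (tot D a) := by
  rw [topMap, D.map_id]
  rfl

theorem map_base {a b : (Stk.sieveCat R).obj} (φ : a ⟶ b) :
    (D.map φ).base = eqToHom (base_eq D a) ≫ φ.hom.left ≫ eqToHom (base_eq D b).symm :=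
  based_map D φ

theorem isPullback_topMap {a b : (Stk.sieveCat R).obj} (φ : a ⟶ b) :
    IsPullback (topMap D φ).left (proj D a) (proj D b) ((yon S).map φ.hom.left) := by
  refine (isPullback_left _ (D.map φ)).paste_vert (IsPullback.of_vert_isIso ⟨?_⟩)
  rw [← Functor.map_comp, ← Functor.map_comp, map_base]
  simp

theorem bsec_map {a b : (Stk.sieveCat R).obj} (φ : a ⟶ b) :
    (yon S).map φ.hom.left ≫ bsec D b = bsec D a := by
  have h := (D.map φ).wb
  rw [map_base, Functor.map_comp, Category.assoc] at h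
  rw [bsec, bsec, ← h, ← Functor.map_comp_assoc, ← Functor.map_comp_assoc, ← Functor.map_comp_assoc]
  congr 2
  simp

/-- Sections of the glued presheaf. -/
structure Sec (Z : Over S) : Type (u + 1) where
  r : Z ⟶ U
  hr : R r
  s : (yon S).obj Z ⟶ (tot D (sObj r hr)).left
  hs : s ≫ proj D (sObj r hr) = 𝟙 _

variable {D}

theorem Sec.ext' {Z : Over S} {p q : Sec D Z} (h : p.r = q.r)
    (hφ : ∀ φ : sObj p.r p.hr ⟶ sObj q.r q.hr, φ.hom.left = 𝟙 Z → p.s ≫ (topMap D φ).left = q.s) : p = q := by
  obtain ⟨r, hr, s, hs⟩ := p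
  obtain ⟨r', hr', s', hs'⟩ := q
  obtain rfl : r = r' := h
  have := hφ (𝟙 _) rfl
  rw [topMap_id] at this
  obtain rfl : s = s' := (Category.comp_id s).symm.trans this
  rfl

/-- The section over `Z` of a point of a member of the datum. -/
noncomputable def secAt {Z : Over S} (a : (Stk.sieveCat R).obj) (s₀ : (yon S).obj Z ⟶ (tot D a).left)
    (e : Z ⟶ a.obj.left) (he : s₀ ≫ proj D a = (yon S).map e) : Sec D Z where
  r := e ≫ a.obj.hom
  hr := R.downward_closed a.property e
  s := (isPullback_topMap D (sHom (a := sObj (e ≫ a.obj.hom) (R.downward_closed a.property e)) (b := a) e rfl)).lift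
    s₀ (𝟙 _) (by rw [he]; exact (Category.id_comp _).symm)
  hs := IsPullback.lift_snd _ _ _ _

theorem secAt_top {Z : Over S} (a : (Stk.sieveCat R).obj) (s₀ : (yon S).obj Z ⟶ (tot D a).left)
    (e : Z ⟶ a.obj.left) (he : s₀ ≫ proj D a = (yon S).map e)
    (φ : sObj (secAt a s₀ e he).r (secAt a s₀ e he).hr ⟶ a) (hφ : φ.hom.left = e) :
    (secAt a s₀ e he).s ≫ (topMap D φ).left = s₀ := by
  obtain rfl : φ = sHom e rfl := sHom_ext hφ
  exact IsPullback.lift_fst _ _ _ _

theorem eq_secAt {Z : Over S} (p : Sec D Z) (a : (Stk.sieveCat R).obj) (s₀ : (yon S).obj Z ⟶ (tot D a).left)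
    (e : Z ⟶ a.obj.left) (he : s₀ ≫ proj D a = (yon S).map e) (φ : sObj p.r p.hr ⟶ a) (hφ : φ.hom.left = e)
    (h : p.s ≫ (topMap D φ).left = s₀) : p = secAt a s₀ e he := by
  have hr : p.r = e ≫ a.obj.hom := by
    rw [← hφ]
    exact (Over.w φ.hom).symm
  refine Sec.ext' hr fun ψ hψ => ?_
  let φ' : sObj (secAt a s₀ e he).r (secAt a s₀ e he).hr ⟶ a := sHom e rfl
  apply (isPullback_topMap D φ').hom_ext
  · rw [secAt_top a s₀ e he φ' rfl, Category.assoc, ← Over.comp_left, ← topMap_comp,
      show ψ ≫ φ' = φ from sHom_ext (by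
        show ψ.hom.left ≫ e = φ.hom.left
        rw [hψ, hφ]; exact Category.id_comp _)]
    exact h
  · rw [(secAt a s₀ e he).hs, Category.assoc, (isPullback_topMap D ψ).w, reassoc_of% p.hs, hψ]
    exact (yon S).map_id _

/-- Restriction of sections. -/
noncomputable def Sec.res {Z' Z : Over S} (k : Z' ⟶ Z) (p : Sec D Z) : Sec D Z' :=
  secAt (sObj p.r p.hr) ((yon S).map k ≫ p.s) k (by rw [Category.assoc, p.hs, Category.comp_id])

theorem Sec.res_secAt {Z' Z : Over S} (k : Z' ⟶ Z) (a : (Stk.sieveCat R).obj)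
    (s₀ : (yon S).obj Z ⟶ (tot D a).left) (e : Z ⟶ a.obj.left) (he : s₀ ≫ proj D a = (yon S).map e) :
    Sec.res k (secAt a s₀ e he) =
      secAt a ((yon S).map k ≫ s₀) (k ≫ e) (by rw [Category.assoc, he, Functor.map_comp]) := by
  let p := secAt a s₀ e he
  refine eq_secAt _ a _ _ _ (sHom (k ≫ e) (Category.assoc _ _ _)) rfl ?_
  have e1 : (sHom (k ≫ e) (Category.assoc _ _ _) : sObj (Sec.res k p).r (Sec.res k p).hr ⟶ a) =
      (sHom k rfl : sObj (Sec.res k p).r (Sec.res k p).hr ⟶ sObj p.r p.hr) ≫ sHom e rfl := sHom_ext rfl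
  rw [e1, topMap_comp, Over.comp_left, ← Category.assoc]
  refine (congrArg (· ≫ _) (secAt_top (sObj p.r p.hr) _ k _ _ rfl)).trans ?_
  rw [Category.assoc]
  exact congrArg (_ ≫ ·) (secAt_top a s₀ e he _ rfl)

theorem Sec.res_id {Z : Over S} (p : Sec D Z) : Sec.res (𝟙 Z) p = p :=
  (eq_secAt p (sObj p.r p.hr) _ _ _ (𝟙 _) rfl
    (by rw [topMap_id, CategoryTheory.Functor.map_id, Category.id_comp]; exact Category.comp_id _)).symm

theorem Sec.res_comp {Z'' Z' Z : Over S} (j : Z'' ⟶ Z') (k : Z' ⟶ Z) (p : Sec D Z) :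
    Sec.res (j ≫ k) p = Sec.res j (Sec.res k p) := by
  refine Eq.trans ?_ (Sec.res_secAt j (sObj p.r p.hr) _ k _).symm
  show secAt _ _ _ _ = _
  congr 1

variable (D)

/-- The glued presheaf. -/
noncomputable def pre : (Over S)ᵒᵖ ⥤ Type (u + 1) where
  obj Z := Sec D Z.unop
  map f := ↾(Sec.res f.unop)
  map_id Z := by
    ext p
    exact Sec.res_id p
  map_comp f g := by
    ext p
    exact Sec.res_comp g.unop f.unop p

/-- The map of the glued presheaf to `h_U`. -/
def preπ : pre D ⟶ ((yon S).obj U).obj where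
  app Z := ↾(fun p => ULift.up p.r)
  naturality Z Z' f := by
    ext p
    rfl

/-- The point of a section of a member. -/
noncomputable abbrev symSec {a : (Stk.sieveCat R).obj} {Z : Over S} (x : (tot D a).left.obj.obj (op Z)) :
    (yon S).obj Z ⟶ (tot D a).left :=
  ((J S).uliftYonedaEquiv.{u + 1}).symm x

/-- The chart of a member. -/
noncomputable def chartPre (a : (Stk.sieveCat R).obj) : (tot D a).left.obj ⟶ pre D where
  app Z := ↾(fun x => secAt a (symSec D (Z := Z.unop) x) ((yon S).preimage (symSec D (Z := Z.unop) x ≫ proj D a))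
    ((yon S).map_preimage _).symm)
  naturality Z Z' f := by
    ext x
    refine Eq.trans ?_ (Sec.res_secAt f.unop a (symSec D (Z := Z.unop) x)
      ((yon S).preimage (symSec D (Z := Z.unop) x ≫ proj D a)) ((yon S).map_preimage _).symm).symm
    have h1 : symSec D (Z := Z'.unop) ((tot D a).left.obj.map f x) = (yon S).map f.unop ≫ symSec D (Z := Z.unop) x :=
      GrothendieckTopology.uliftYonedaEquiv_symm_map _ f x
    have key : ∀ (s s' : (yon S).obj Z'.unop ⟶ (tot D a).left) (e e' : Z'.unop ⟶ a.obj.left) (he : s ≫ proj D a = (yon S).map e)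
        (he' : s' ≫ proj D a = (yon S).map e'), s = s' → secAt a s e he = secAt a s' e' he' := by
      rintro s _ e e' he he' rfl
      obtain rfl : e = e' := (yon S).map_injective (he.symm.trans he')
      rfl
    exact key _ _ _ _ ((yon S).map_preimage _).symm
      (by rw [Category.assoc, Functor.map_comp, (yon S).map_preimage]) h1

theorem chartPre_apply (a : (Stk.sieveCat R).obj) {Z : Over S} (x : (tot D a).left.obj.obj (op Z))
    (e : Z ⟶ a.obj.left) (he : symSec D x ≫ proj D a = (yon S).map e) :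
    (chartPre D a).app (op Z) x = secAt a (symSec D x) e he := by
  obtain rfl : e = (yon S).preimage (symSec D x ≫ proj D a) := (yon S).map_injective (by rw [(yon S).map_preimage, he])
  rfl

theorem proj_app (a : (Stk.sieveCat R).obj) {Z : Over S} (x : (tot D a).left.obj.obj (op Z)) :
    (proj D a).hom.app (op Z) x = ULift.up ((yon S).preimage (symSec D x ≫ proj D a)) := by
  have h : (J S).uliftYonedaEquiv.{u + 1} (symSec D x ≫ proj D a) = (proj D a).hom.app (op Z) x := by
    rw [GrothendieckTopology.uliftYonedaEquiv_comp, Equiv.apply_symm_apply]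
  rw [← h]
  conv_lhs => rw [← (yon S).map_preimage (symSec D x ≫ proj D a)]
  exact GrothendieckTopology.uliftYonedaEquiv_uliftYoneda_map _ _

theorem isPullback_chartPre (a : (Stk.sieveCat R).obj) :
    IsPullback (chartPre D a) (proj D a).hom (preπ D) ((yon S).map a.obj.hom).hom := by
  refine IsPullback.of_forall_isPullback_app fun Z => ?_
  obtain ⟨Z⟩ := Z
  rw [Types.isPullback_iff]
  refine ⟨?_, fun x y h => ?_, fun p e h => ?_⟩
  · ext x
    show ULift.up _ = ((yon S).map a.obj.hom).hom.app (op Z) ((proj D a).hom.app (op Z) x)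
    rw [proj_app]
    rfl
  · obtain ⟨h1, h2⟩ := h
    have he : (yon S).preimage (symSec D x ≫ proj D a) = (yon S).preimage (symSec D y ≫ proj D a) := by
      rw [proj_app, proj_app] at h2
      exact congrArg ULift.down h2
    apply ((J S).uliftYonedaEquiv.{u + 1}).symm.injective
    change symSec D x = symSec D y
    have hx := chartPre_apply D a x _ ((yon S).map_preimage _).symm
    have hy := chartPre_apply D a y _ (((yon S).map_preimage _).symm.trans (congrArg (yon S).map he.symm))
    rw [hx, hy] at h1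
    have k := secAt_top a (symSec D x) _ ((yon S).map_preimage _).symm (sHom _ rfl) rfl
    rw [← k]
    have key : ∀ (p q : Sec D Z) (e : Z ⟶ a.obj.left) (φ : sObj p.r p.hr ⟶ a) (ψ : sObj q.r q.hr ⟶ a),
        p = q → φ.hom.left = e → ψ.hom.left = e → p.s ≫ (topMap D φ).left = q.s ≫ (topMap D ψ).left := by
      rintro p _ e φ ψ rfl hφ hψ
      rw [sHom_ext (hφ.trans hψ.symm)]
    rw [key _ _ ((yon S).preimage (symSec D x ≫ proj D a)) _ (sHom _ rfl) h1 rfl rfl]
    exact secAt_top a _ _ _ _ rfl
  · obtain ⟨e⟩ := e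
    have hr : p.r = e ≫ a.obj.hom := congrArg ULift.down h
    let φ : sObj p.r p.hr ⟶ a := sHom e hr.symm
    let x : (tot D a).left.obj.obj (op Z) := (J S).uliftYonedaEquiv.{u + 1} (p.s ≫ (topMap D φ).left)
    have hx : symSec D x = p.s ≫ (topMap D φ).left := Equiv.symm_apply_apply _ _
    have he : symSec D x ≫ proj D a = (yon S).map e := by
      rw [hx, Category.assoc, (isPullback_topMap D φ).w, reassoc_of% p.hs]
      rfl
    refine ⟨x, ?_, ?_⟩
    · show (chartPre D a).app (op Z) x = p
      rw [chartPre_apply D a x e he]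
      exact (eq_secAt p a _ _ he φ rfl hx.symm).symm
    · show (proj D a).hom.app (op Z) x = ULift.up e
      rw [proj_app, he, (yon S).preimage_map]

theorem chartPre_comp {a b : (Stk.sieveCat R).obj} (φ : a ⟶ b) :
    (topMap D φ).left.hom ≫ chartPre D b = chartPre D a := by
  ext Z x
  obtain ⟨Z⟩ := Z
  show (chartPre D b).app (op Z) ((topMap D φ).left.hom.app (op Z) x) = (chartPre D a).app (op Z) x
  have hy : symSec D ((topMap D φ).left.hom.app (op Z) x) = symSec D x ≫ (topMap D φ).left := by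
    apply (J S).uliftYonedaEquiv.injective
    rw [GrothendieckTopology.uliftYonedaEquiv_comp, Equiv.apply_symm_apply, Equiv.apply_symm_apply]
  let e := (yon S).preimage (symSec D x ≫ proj D a)
  have he : symSec D x ≫ proj D a = (yon S).map e := ((yon S).map_preimage _).symm
  have he' : symSec D ((topMap D φ).left.hom.app (op Z) x) ≫ proj D b = (yon S).map (e ≫ φ.hom.left) := by
    rw [hy, Category.assoc, (isPullback_topMap D φ).w, reassoc_of% he, Functor.map_comp]
  rw [chartPre_apply D b _ _ he', chartPre_apply D a x e he]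
  refine (eq_secAt (secAt a (symSec D x) e he) b _ _ he' (sHom e rfl ≫ φ) rfl ?_).symm
  rw [topMap_comp, Over.comp_left, ← Category.assoc, secAt_top a _ e he _ rfl, hy]

/-- The glued sheaf with its charts. -/
theorem exists_total :
    ∃ (P₀ : Sp S) (π₀ : P₀ ⟶ (yon S).obj U) (ν : ∀ a, (tot D a).left ⟶ P₀),
      (∀ a, IsPullback (ν a) (proj D a) π₀ ((yon S).map a.obj.hom)) ∧
      ∀ {a b} (φ : a ⟶ b), (topMap D φ).left ≫ ν b = ν a := by
  let F := presheafToSheaf (J S) (Type (u + 1))
  let ε := (sheafificationAdjunction (J S) (Type (u + 1))).counit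
  let π₀ : F.obj (pre D) ⟶ (yon S).obj U := F.map (preπ D) ≫ ε.app ((yon S).obj U)
  refine ⟨F.obj (pre D), π₀, fun a => inv (ε.app (tot D a).left) ≫ F.map (chartPre D a), fun a => ?_, fun {a b} φ => ?_⟩
  · refine ((isPullback_chartPre D a).map F).of_iso (asIso (ε.app (tot D a).left)) (Iso.refl _)
      (asIso (ε.app ((yon S).obj a.obj.left))) (asIso (ε.app ((yon S).obj U))) ?_ ?_ ?_ ?_
    · simp
    · exact (ε.naturality (proj D a))
    · simp [π₀]
    · exact (ε.naturality ((yon S).map a.obj.hom))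
  · rw [← Category.assoc, IsIso.eq_inv_comp, ← Category.assoc, ← Category.assoc]
    rw [← chartPre_comp D φ, Functor.map_comp]
    congr 1
    rw [IsIso.comp_inv_eq]
    exact (ε.naturality (topMap D φ).left).symm

/-- The glued section of the base. -/
theorem exists_bsec (hR : R ∈ J S U) :
    ∃ bU : (yon S).obj U ⟶ B, ∀ a : (Stk.sieveCat R).obj, (yon S).map a.obj.hom ≫ bU = bsec D a := by
  obtain ⟨bU, hbU⟩ := exists_glue (𝟙 ((yon S).obj U)) hR (F := B) (fun Z s g _ hg => bsec D (sObj g hg))
    fun Z' Z k s g hs hg hs' hg' => (bsec_map D (sHom (a := sObj (k ≫ g) hg') (b := sObj g hg) k rfl)).symm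
  exact ⟨bU, fun a => hbU ((yon S).map a.obj.hom) a.obj.hom (Category.comp_id _) a.property⟩

end Groth.Agent.Stk19b.SpQuot
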